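import Cfsg.Agent.Omega.NO1.AB.Loc

/-!
# N1, ALPHA / BETA (bb OMEGA 17581, helper645): case BETA

`Loc.beta` : if `g X₁ ≤ E` for all `g ∉ L₁` (`X = C_V(Q)`, `X₁ = X ∩ F`), then `X = X₁ + g X₁`, `X / C` has the spread
`{g X₁ / C}`, `|X₁ / C| = |A / A ∩ Q|`, `C_A(x) = A ∩ Q` for `x ∈ X - X₁`, `C_V(A ∩ Q) = X + F`.
-/

set_option autoImplicit false
set_option linter.unusedSectionVars false

namespace Cfsg.Agent.Omega.NO1.AB

open Subgroup
open scoped Pointwise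

universe u

variable {L : Type u} [Group L] {V : Type u} [AddCommGroup V] [DistribMulAction L V]

theorem mem_smul_as {g : L} {W : AddSubgroup V} {v : V} : v ∈ g • W ↔ g⁻¹ • v ∈ W :=
  AddSubgroup.mem_pointwise_smul_iff_inv_smul_mem

theorem smul_mem_smul_as {g : L} {W : AddSubgroup V} {v : V} (h : v ∈ W) : g • v ∈ g • W := by
  rw [mem_smul_as, inv_smul_smul]; exact h

theorem card_smul_as (g : L) (W : AddSubgroup V) : Nat.card ↥(g • W) = Nat.card W :=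
  Nat.card_congr
    { toFun := fun v => ⟨g⁻¹ • (v : V), mem_smul_as.1 v.2⟩
      invFun := fun v => ⟨g • (v : V), smul_mem_smul_as v.2⟩
      left_inv := fun v => Subtype.ext (smul_inv_smul g (v : V))
      right_inv := fun v => Subtype.ext (inv_smul_smul g (v : V)) }

theorem eq_of_le_as [Finite V] {W₁ W₂ : AddSubgroup V} (h : W₁ ≤ W₂) (hc : Nat.card W₂ ≤ Nat.card W₁) :
    W₁ = W₂ := by
  apply SetLike.coe_injective
  exact Set.eq_of_subset_of_ncard_le h hc (Set.toFinite _)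

theorem card_sup_as [Finite V] (W₁ W₂ : AddSubgroup V) :
    Nat.card ↥(W₁ ⊔ W₂) * Nat.card ↥(W₁ ⊓ W₂) = Nat.card W₁ * Nat.card W₂ := by
  have h1 := AddSubgroup.relIndex_mul_relIndex ⊥ (W₁ ⊓ W₂) W₂ bot_le inf_le_right
  have h2 := AddSubgroup.relIndex_mul_relIndex ⊥ W₁ (W₁ ⊔ W₂) bot_le le_sup_left
  rw [AddSubgroup.relIndex_bot_left, AddSubgroup.relIndex_bot_left, AddSubgroup.inf_relIndex_right] at h1
  rw [AddSubgroup.relIndex_bot_left, AddSubgroup.relIndex_bot_left, AddSubgroup.relIndex_sup_left] at h2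
  rw [← h1, ← h2]
  ring

theorem fx_inv {Q : Subgroup L} (hQ : Q.Normal) (g : L) {x : V} (hx : x ∈ fx V Q) : g • x ∈ fx V Q := by
  intro q hq
  have h1 := hx _ (by simpa using hQ.conj_mem q hq g⁻¹)
  rw [mul_smul, mul_smul, inv_smul_eq_iff] at h1
  exact h1

theorem smul_fx {Q : Subgroup L} (hQ : Q.Normal) (g : L) : g • fx V Q = fx V Q := by
  ext v
  rw [mem_smul_as]
  constructor
  · intro h
    have := fx_inv hQ g h
    rwa [smul_inv_smul] at this
  · intro h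
    exact fx_inv hQ g⁻¹ h

theorem smul_add_top {g : L} {c : V} (hc : c ∈ fx V (⊤ : Subgroup L)) : g • c = c := hc g (mem_top g)

/-- fixed points modulo a submodule -/
theorem exists_fixed_mod [Finite V] (h2 : ∀ v : V, v + v = 0) {R : Subgroup L} (hR : IsPGroup 2 R)
    (W C : AddSubgroup V) (hW : ∀ r ∈ R, ∀ w ∈ W, r • w ∈ W) (hC : ∀ r ∈ R, ∀ w ∈ C, r • w ∈ C)
    (hne : ∃ w ∈ W, w ∉ C) : ∃ w ∈ W, w ∉ C ∧ ∀ r ∈ R, r • w + w ∈ C := by
  have : Fact (Nat.Prime 2) := ⟨Nat.prime_two⟩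
  let C' : AddSubgroup W := C.addSubgroupOf W
  let φ : R → (W →+ W) := fun r =>
    { toFun := fun w => ⟨(r : L) • (w : V), hW r r.2 w w.2⟩
      map_zero' := Subtype.ext (smul_zero (r : L))
      map_add' := fun a b => Subtype.ext (smul_add (r : L) (a : V) (b : V)) }
  have hφ : ∀ r, C' ≤ C'.comap (φ r) := fun r w hw => by
    rw [AddSubgroup.mem_comap]
    exact hC r r.2 _ hw
  let _ : MulAction R (W ⧸ C') :=
    { smul := fun r q => QuotientAddGroup.map C' C' (φ r) (hφ r) q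
      one_smul := fun q => by
        induction q using QuotientAddGroup.induction_on with
        | H w =>
          change QuotientAddGroup.map C' C' (φ 1) (hφ 1) _ = _
          rw [QuotientAddGroup.map_mk]
          congr 1
          exact Subtype.ext (one_smul L (w : V))
      mul_smul := fun r s q => by
        induction q using QuotientAddGroup.induction_on with
        | H w =>
          change QuotientAddGroup.map C' C' (φ (r * s)) (hφ _) _ =
            QuotientAddGroup.map C' C' (φ r) (hφ r) (QuotientAddGroup.map C' C' (φ s) (hφ s) _)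
          rw [QuotientAddGroup.map_mk, QuotientAddGroup.map_mk, QuotientAddGroup.map_mk]
          congr 1
          exact Subtype.ext (mul_smul (r : L) (s : L) (w : V)) }
  have hmk : ∀ (r : R) (w : W), r • (QuotientAddGroup.mk w : W ⧸ C') = QuotientAddGroup.mk (φ r w) :=
    fun _ _ => rfl
  obtain ⟨w, hw, hw0⟩ := hne
  have h1 : 2 ∣ Nat.card (W ⧸ C') := by
    have h3 : addOrderOf (QuotientAddGroup.mk (⟨w, hw⟩ : W) : W ⧸ C') = 2 := by
      refine addOrderOf_eq_prime ?_ ?_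
      · rw [two_nsmul, ← QuotientAddGroup.mk_add]
        have : (⟨w, hw⟩ : W) + ⟨w, hw⟩ = 0 := Subtype.ext (h2 w)
        rw [this]; rfl
      · intro h
        rw [QuotientAddGroup.eq_zero_iff] at h
        exact hw0 h
    rw [← h3]
    exact addOrderOf_dvd_natCard _
  obtain ⟨x, hx, hne⟩ := hR.exists_fixed_point_of_prime_dvd_card_of_fixed_point (W ⧸ C') h1 (a := 0) (by
    intro r
    exact map_zero (QuotientAddGroup.map C' C' (φ r) (hφ r)))
  induction x using QuotientAddGroup.induction_on with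
  | H x =>
    refine ⟨x, x.2, fun h => hne ?_, fun r hr => ?_⟩
    · symm
      rw [QuotientAddGroup.eq_zero_iff]
      exact h
    · have h4 := hx ⟨r, hr⟩
      rw [hmk, QuotientAddGroup.eq] at h4
      have h5 : -(r • (x : V)) + (x : V) ∈ C := h4
      have h6 : -(r • (x : V)) = r • (x : V) := neg_eq_of_add_eq_zero_left (h2 _)
      rwa [h6] at h5

/-- a 2-subgroup of `K ≥ P` is conjugate in `K` into `P` -/
theorem sylow_conj [Finite L] (P : Sylow 2 L) {K : Subgroup L} (hK : (P : Subgroup L) ≤ K) {R : Subgroup L}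
    (hR : IsPGroup 2 R) (hRK : R ≤ K) : ∃ k ∈ K, ∀ r ∈ R, k⁻¹ * r * k ∈ P := by
  have : Fact (Nat.Prime 2) := ⟨Nat.prime_two⟩
  let TK : Sylow 2 K := P.subtype hK
  have hRK' : IsPGroup 2 (R.subgroupOf K) := hR.comap_of_injective K.subtype Subtype.coe_injective
  obtain ⟨Q, hQ⟩ := hRK'.exists_le_sylow
  obtain ⟨k, hk⟩ := MulAction.exists_smul_eq K TK Q
  refine ⟨k, k.2, fun r hr => ?_⟩
  have h1 : (⟨r, hRK hr⟩ : K) ∈ (Q : Subgroup K) := hQ (mem_subgroupOf.mpr hr)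
  rw [← hk, Sylow.coe_subgroup_smul, Subgroup.mem_pointwise_smul_iff_inv_smul_mem] at h1
  have h2 : ((k⁻¹ * ⟨r, hRK hr⟩ * k : K)) ∈ (TK : Subgroup K) := by
    have h3 : (MulAut.conj k)⁻¹ • (⟨r, hRK hr⟩ : K) = k⁻¹ * ⟨r, hRK hr⟩ * k := by
      rw [← map_inv, MulAut.smul_def, MulAut.conj_apply, inv_inv]
    rwa [h3] at h1
  exact h2

theorem isPGroup_zpowers_of_sq {y : L} (hy : y * y = 1) : IsPGroup 2 (zpowers y) := by
  rintro ⟨w, hw⟩
  obtain ⟨n, rfl⟩ := mem_zpowers_iff.mp hw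
  refine ⟨1, Subtype.ext ?_⟩
  rw [pow_one]
  change (y ^ n) ^ 2 = 1
  rw [← zpow_natCast, ← zpow_mul, mul_comm, zpow_mul, zpow_natCast, pow_two, hy, one_zpow]

/-- Conclusions of case BETA. -/
structure Beta (A : Subgroup L) (E F X : AddSubgroup V) (Q L₁ : Subgroup L) : Prop where
  XE : X ≤ E
  sup : ∀ g ∉ L₁, X = X ⊓ F ⊔ g • (X ⊓ F)
  cap : ∀ g ∉ L₁, ∀ a ∈ A, a ∈ MulAut.conj g • L₁ → a ∈ Q
  cen : ∀ x ∈ X, x ∉ F → ∀ a ∈ A, a • x = x → a ∈ Q
  cov : ∀ g ∉ L₁, ∀ x ∈ X, x ∉ F → ∃ a ∈ A, x ∈ (a * g) • (X ⊓ F)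
  inv : ∀ g ∈ L₁, g • (X ⊓ F) = X ⊓ F
  tra : ∀ g ∉ L₁, ∀ k ∉ L₁, ∃ a ∈ A, (a * g)⁻¹ * k ∈ L₁
  card : Nat.card ↥(X ⊓ F) * Nat.card ↥(A ⊓ Q) = Nat.card ↥(fx V (⊤ : Subgroup L)) * Nat.card A
  CVB : fx V (A ⊓ Q) = X ⊔ F
  ne : A ⊓ Q ≠ ⊥
  cc : ∀ a ∈ A, a ∉ Q → ∀ x ∈ X, a • x + x ∈ fx V (⊤ : Subgroup L) → x ∈ F
  full : ∀ v ∈ X, v ∉ F → ∀ x ∈ X ⊓ F, ∃ a ∈ A, ∃ c ∈ fx V (⊤ : Subgroup L), a • v + v = x + c

namespace Mem

variable {A : Subgroup L} {E F : AddSubgroup V} (h : Mem A E F)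
include h

/-- the homomorphism `a ↦ [x, a]`, `x ∈ E` -/
theorem add_of (h2 : ∀ v : V, v + v = 0) {x : V} (hx : x ∈ E) {a b : L} (ha : a ∈ A) (hb : b ∈ A) :
    (a * b) • x + x = (a • x + x) + (b • x + x) := by
  have h1 := h.FB a ha _ (h.EB b hb x hx)
  rw [smul_add] at h1
  rw [mul_smul]
  have h3 : a • b • x = b • x + x + a • x := by
    rw [← h1, add_assoc, h2, add_zero]
  rw [h3]
  abel

/-- `|E| = |F||A|` -/
theorem card_E [Finite L] [Finite V] (h2 : ∀ v : V, v + v = 0) : Nat.card E = Nat.card F * Nat.card A := by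
  obtain ⟨w, hw⟩ := h.ne
  have hneg : ∀ v : V, -v = v := fun v => neg_eq_of_add_eq_zero_left (h2 v)
  let f : F × A → E := fun p => ⟨(p.2 : L) • w + w + p.1, E.add_mem (h.VB _ p.2.2 w) (h.FE p.1.2)⟩
  have hf : Function.Bijective f := by
    constructor
    · rintro ⟨⟨x, hx⟩, ⟨a, ha⟩⟩ ⟨⟨y, hy⟩, ⟨b, hb⟩⟩ he
      have h3 : a • w + w + x = b • w + w + y := congrArg Subtype.val he
      -- `b⁻¹ a`
      have h4 : (b * a) • w + w ∈ F := by
        have h5 : a • w = b • w + y + x := by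
          have : a • w + w + x + w + x = b • w + w + y + w + x := by rw [h3]
          have e1 : a • w + w + x + w + x = a • w + (w + w) + (x + x) := by abel
          have e2 : b • w + w + y + w + x = b • w + (w + w) + y + x := by abel
          rw [e1, e2, h2, h2, add_zero, add_zero, add_zero] at this
          exact this
        rw [mul_smul, h5, smul_add, smul_add, ← mul_smul, h.sq b hb, one_smul, h.FB b hb y hy, h.FB b hb x hx]
        have e3 : w + y + x + w = (w + w) + (y + x) := by abel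
        rw [e3, h2, zero_add]
        exact F.add_mem hy hx
      have h5 := h.inj w hw _ (mul_mem hb ha) h4
      have h6 : a = b := by
        have : b * (b * a) = b * 1 := by rw [h5]
        rw [← mul_assoc, h.sq b hb, one_mul, mul_one] at this
        exact this
      subst h6
      have h7 : x = y := add_left_cancel h3
      subst h7
      rfl
    · rintro ⟨e, he⟩
      obtain ⟨b, hb, h3⟩ := h.surj w hw e he
      refine ⟨⟨⟨_, h3⟩, ⟨b, hb⟩⟩, Subtype.ext ?_⟩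
      change b • w + w + (b • w + w + e) = e
      rw [← add_assoc, h2, zero_add]
  rw [← Nat.card_prod]
  exact (Nat.card_congr (Equiv.ofBijective f hf)).symm

end Mem

namespace Loc

variable {A : Subgroup L} {E F : AddSubgroup V} {Q L₁ : Subgroup L} {R : Sylow 2 L} {z : V}
  (h : Loc A E F Q L₁ R z)
include h

theorem C_le_F : fx V (⊤ : Subgroup L) ≤ F := fun _ hv => h.mem.CB _ fun b _ => hv b (mem_top b)

theorem C_le [Finite L] : fx V (⊤ : Subgroup L) ≤ fx V Q ⊓ F := le_inf (fx_mono le_top) h.C_le_F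

theorem z_mem [Finite L] : z ∈ fx V Q ⊓ F :=
  ⟨fun q hq => h.zR q (h.Q_le_R hq), h.mem.CB _ fun b hb => h.zR b (h.AR hb)⟩

theorem z_not : z ∉ fx V (⊤ : Subgroup L) := by
  intro hz
  obtain ⟨l, hl⟩ := h.zL
  exact hl (hz l (mem_top l))

theorem smul_X (g : L) {x : V} (hx : x ∈ fx V Q) : g • x ∈ fx V Q := fx_inv h.Qn g hx

theorem mem_C_of [Finite L] {x y : L} (hx : x⁻¹ * y ∉ L₁) {v : V} (h1 : v ∈ x • (fx V Q ⊓ F))
    (h2 : v ∈ y • (fx V Q ⊓ F)) : v ∈ fx V (⊤ : Subgroup L) :=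
  h.fix_all hx (mem_smul_as.1 h1).2 (mem_smul_as.1 h2).2

theorem mem_C_of_F [Finite L] {g : L} (hg : g ∉ L₁) {v : V} (h1 : v ∈ g • (fx V Q ⊓ F)) (h2 : v ∈ F) :
    v ∈ fx V (⊤ : Subgroup L) :=
  h.fix_all (x := 1) (y := g) (by simpa using hg) (by simpa using h2) (mem_smul_as.1 h1).2

theorem mem_X_of {g : L} {v : V} (h1 : v ∈ g • (fx V Q ⊓ F)) : v ∈ fx V Q := by
  have := h.smul_X g (mem_smul_as.1 h1).1
  rwa [smul_inv_smul] at this

/-- (e) -/
theorem mem_of_comm [Finite L] {g a : L} {v : V} (hv : v ∈ g • (fx V Q ⊓ F))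
    (hvC : v ∉ fx V (⊤ : Subgroup L)) (ha : a • v + v ∈ fx V (⊤ : Subgroup L)) : a ∈ MulAut.conj g • L₁ := by
  by_contra hn
  rw [mem_conj] at hn
  have h1 := h.stab_le (x := g) (v := v) (mem_smul_as.1 hv).2 hvC
  have h3 : g⁻¹ * (a * g) ∉ L₁ := by rwa [← mul_assoc]
  have h4 := h.top_of' h3
  have h5 : MulAut.conj (a * g) • A ≤ MulAction.stabilizer L (a • v) := by
    rw [stab_le_iff h.mem]
    have e : (a * g)⁻¹ • a • v = g⁻¹ • v := by
      rw [← mul_smul]; congr 1; group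
    rw [e]
    exact (mem_smul_as.1 hv).2
  have h6 : MulAction.stabilizer L (a • v) ≤ MulAction.stabilizer L v := by
    intro l hl
    rw [MulAction.mem_stabilizer_iff] at hl ⊢
    set c := a • v + v with hc
    have e : a • v = v + c := by
      rw [hc, add_comm (a • v) v, ← add_assoc, h.two, zero_add]
    rw [e, smul_add, smul_add_top ha] at hl
    exact add_right_cancel hl
  apply h.ne
  apply conj_eq_top (g := g)
  rw [eq_top_iff, ← h4]
  exact sup_le (conj_le_conj g h.A_le) ((h5.trans h6).trans h1)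

section beta

variable [Finite L] [Finite V] (hβ : ∀ g ∉ L₁, ∀ x ∈ fx V Q ⊓ F, g • x ∈ E)
include hβ

theorem memE {g : L} (hg : g ∉ L₁) {v : V} (hv : v ∈ g • (fx V Q ⊓ F)) : v ∈ E := by
  have := hβ g hg _ (mem_smul_as.1 hv)
  rwa [smul_inv_smul] at this

theorem comm_mem {g : L} (hg : g ∉ L₁) {v : V} (hv : v ∈ g • (fx V Q ⊓ F)) {a : L} (ha : a ∈ A) :
    a • v + v ∈ fx V Q ⊓ F :=
  ⟨(fx V Q).add_mem (h.smul_X a (h.mem_X_of hv)) (h.mem_X_of hv), h.mem.EB a ha v (h.memE hβ hg hv)⟩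

/-- `X' = X₁ + g X₁` is `L`-invariant -/
theorem smul_X' {g : L} (hg : g ∉ L₁) (l : L) :
    l • (fx V Q ⊓ F ⊔ g • (fx V Q ⊓ F)) = fx V Q ⊓ F ⊔ g • (fx V Q ⊓ F) := by
  set X' := fx V Q ⊓ F ⊔ g • (fx V Q ⊓ F) with hX'
  have key : ∀ a : L, (∀ v ∈ X', a • v ∈ X') → a ∈ MulAction.stabilizer L X' := by
    intro a ha
    rw [MulAction.mem_stabilizer_iff]
    apply eq_of_le_as
    · intro v hv
      have := ha _ (mem_smul_as.1 hv)
      rwa [smul_inv_smul] at this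
    · exact (card_smul_as a X').ge
  have h1 : A ≤ MulAction.stabilizer L X' := by
    intro a ha
    apply key
    intro v hv
    rw [hX', AddSubgroup.mem_sup] at hv
    obtain ⟨x, hx, y, hy, rfl⟩ := hv
    rw [smul_add, h.mem.FB a ha x hx.2]
    have e : a • y = a • y + y + y := by rw [add_assoc, h.two, add_zero]
    rw [e]
    exact X'.add_mem (AddSubgroup.mem_sup_left hx)
      (X'.add_mem (AddSubgroup.mem_sup_left (h.comm_mem hβ hg hy ha)) (AddSubgroup.mem_sup_right hy))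
  have h2 : MulAut.conj g • A ≤ MulAction.stabilizer L X' := by
    intro b hb
    rw [mem_conj] at hb
    apply key
    intro v hv
    rw [hX', AddSubgroup.mem_sup] at hv
    obtain ⟨x, hx, y, hy, rfl⟩ := hv
    have hg' : g⁻¹ ∉ L₁ := fun h3 => hg (by simpa using inv_mem h3)
    have hx' : g⁻¹ • x ∈ g⁻¹ • (fx V Q ⊓ F) := smul_mem_smul_as hx
    have h3 := h.comm_mem hβ hg' hx' hb
    have h4 : b • x + x ∈ g • (fx V Q ⊓ F) := by
      rw [mem_smul_as, smul_add]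
      rw [mul_smul, mul_smul, smul_inv_smul] at h3
      exact h3
    have h5 : b • y = y := by
      have h6 := h.mem.FB _ hb _ (mem_smul_as.1 hy).2
      rw [mul_smul, mul_smul, smul_inv_smul, smul_left_cancel_iff] at h6
      exact h6
    rw [smul_add, h5]
    have e : b • x = b • x + x + x := by rw [add_assoc, h.two, add_zero]
    rw [e]
    exact X'.add_mem (X'.add_mem (AddSubgroup.mem_sup_right h4) (AddSubgroup.mem_sup_left hx))
      (AddSubgroup.mem_sup_right hy)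
  have h3 : (⊤ : Subgroup L) ≤ MulAction.stabilizer L X' := by
    rw [← h.top_of hg]
    exact sup_le h1 h2
  exact h3 (mem_top l)

theorem X'_eq {g k : L} (hg : g ∉ L₁) (hk : k ∉ L₁) :
    fx V Q ⊓ F ⊔ g • (fx V Q ⊓ F) = fx V Q ⊓ F ⊔ k • (fx V Q ⊓ F) := by
  have key : ∀ {g k : L}, g ∉ L₁ → fx V Q ⊓ F ⊔ k • (fx V Q ⊓ F) ≤ fx V Q ⊓ F ⊔ g • (fx V Q ⊓ F) := by
    intro g k hg
    refine sup_le le_sup_left ?_
    rw [← h.smul_X' hβ hg k]
    intro v hv
    rw [mem_smul_as] at hv ⊢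
    exact AddSubgroup.mem_sup_left hv
  exact le_antisymm (key hk) (key hg)

/-- (f) -/
theorem mem_F_of_comm {a : L} (ha : a ∈ A) (haQ : a ∉ Q) {g : L} (hg : g ∉ L₁) {x : V}
    (hx : x ∈ fx V Q ⊓ F ⊔ g • (fx V Q ⊓ F)) (hc : a • x + x ∈ fx V (⊤ : Subgroup L)) : x ∈ fx V Q ⊓ F := by
  obtain ⟨k, hk⟩ := h.exists_not_mem ha haQ
  have hkL : k ∉ L₁ := by
    intro h1
    apply hk
    rw [mem_conj]
    exact mul_mem (mul_mem (inv_mem h1) (h.A_le ha)) h1
  rw [h.X'_eq hβ hg hkL, AddSubgroup.mem_sup] at hx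
  obtain ⟨x1, hx1, v, hv, rfl⟩ := hx
  have h1 : a • v + v ∈ fx V (⊤ : Subgroup L) := by
    have e : a • (x1 + v) + (x1 + v) = a • v + v + (x1 + x1) := by
      rw [smul_add, h.mem.FB a ha x1 hx1.2]; abel
    rw [e, h.two, add_zero] at hc
    exact hc
  have h2 : v ∈ fx V (⊤ : Subgroup L) := by
    by_contra h3
    exact hk (h.mem_of_comm hv h3 h1)
  exact (fx V Q ⊓ F).add_mem hx1 (h.C_le h2)

/-- (g) `A ∩ L₁^g ≤ Q` -/
theorem cap_le {g : L} (hg : g ∉ L₁) {d : L} (hd : d ∈ A) (hdg : d ∈ MulAut.conj g • L₁) : d ∈ Q := by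
  by_contra hdQ
  have hP : ((g • R : Sylow 2 L) : Subgroup L) ≤ MulAut.conj g • L₁ := by
    intro y hy
    have hy' : y ∈ g • R := hy
    rw [HE.mem_smul_sylow] at hy'
    rw [mem_conj]
    exact h.R_le hy'
  obtain ⟨k, hk, hk2⟩ := sylow_conj (g • R) hP (isPGroup_zpowers_of_sq (h.mem.sq d hd))
    (zpowers_le.2 hdg)
  have h1 := hk2 d (mem_zpowers d)
  rw [HE.mem_smul_sylow] at h1
  set y := k * g with hy
  have hyL : y ∉ L₁ := by
    rw [mem_conj] at hk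
    intro h2
    apply hg
    have e : g = y * (g⁻¹ * k * g)⁻¹ := by rw [hy]; group
    rw [e]
    exact mul_mem h2 (inv_mem hk)
  have hdR : d ∈ ((y • R : Sylow 2 L) : Subgroup L) := by
    change d ∈ y • R
    rw [HE.mem_smul_sylow]
    have e : y⁻¹ * d * y = g⁻¹ * (k⁻¹ * d * k) * g := by rw [hy]; group
    rwa [e]
  -- fixed vector modulo `C`
  obtain ⟨x, hx, hxC, hxR⟩ := exists_fixed_mod h.two (y • R).2 (fx V Q ⊓ F ⊔ g • (fx V Q ⊓ F))
    (fx V (⊤ : Subgroup L))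
    (by
      intro r _ w hw
      rw [← h.smul_X' hβ hg r]
      exact smul_mem_smul_as hw)
    (by
      intro r _ w hw
      rwa [smul_add_top hw])
    ⟨z, AddSubgroup.mem_sup_left h.z_mem, h.z_not⟩
  have h2 := h.mem_F_of_comm hβ hd hdQ hg hx (hxR d hdR)
  obtain ⟨a, ha, haQ⟩ := Set.not_subset.1 h.not_A_le
  have h3 : y * a * y⁻¹ ∈ ((y • R : Sylow 2 L) : Subgroup L) := by
    change y * a * y⁻¹ ∈ y • R
    rw [HE.mem_smul_sylow]
    have e : y⁻¹ * (y * a * y⁻¹) * y = a := by group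
    rw [e]
    exact h.AR ha
  have h4 := hxR _ h3
  have h5 : a • (y⁻¹ • x) + y⁻¹ • x ∈ fx V (⊤ : Subgroup L) := by
    have e : a • (y⁻¹ • x) + y⁻¹ • x = y⁻¹ • ((y * a * y⁻¹) • x + x) := by
      rw [smul_add, mul_smul, mul_smul, inv_smul_smul]
    rw [e, smul_add_top h4]
    exact h4
  have h6 : y⁻¹ • x ∈ fx V Q ⊓ F ⊔ g • (fx V Q ⊓ F) := by
    rw [← h.smul_X' hβ hg y⁻¹]
    exact smul_mem_smul_as hx
  have h7 := h.mem_F_of_comm hβ ha haQ hg h6 h5
  exact hxC (h.mem_C_of_F hyL (mem_smul_as.2 h7) h2.2)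

/-- (h) -/
theorem cen_le {g : L} (hg : g ∉ L₁) {x : V} (hx : x ∈ g • (fx V Q ⊓ F)) (hxC : x ∉ fx V (⊤ : Subgroup L))
    {a : L} (ha : a ∈ A) (hc : a • x + x ∈ fx V (⊤ : Subgroup L)) : a ∈ Q :=
  h.cap_le hβ hg ha (h.mem_of_comm hx hxC hc)

/-- (i1): `[v, A]`, `v ∈ g X₁ - C` : `|X₁| ≥ |A / A ∩ Q||C|`; the image of `a ↦ [v, a]` -/
theorem exists_img {g : L} (hg : g ∉ L₁) {v : V} (hv : v ∈ g • (fx V Q ⊓ F)) (hvC : v ∉ fx V (⊤ : Subgroup L)) :
    ∃ I : AddSubgroup V, (∀ x, x ∈ I ↔ ∃ a ∈ A, a • v + v = x) ∧ I ≤ fx V Q ⊓ F ∧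
      I ⊓ fx V (⊤ : Subgroup L) = ⊥ ∧ Nat.card I * Nat.card ↥(A ⊓ Q) = Nat.card A := by
  let φ : Additive A →+ V :=
    { toFun := fun a => ((Additive.toMul a : A) : L) • v + v
      map_zero' := by
        change (1 : L) • v + v = 0
        rw [one_smul, h.two]
      map_add' := fun a b => by
        exact h.mem.add_of h.two (h.memE hβ hg hv) (Additive.toMul a : A).2 (Additive.toMul b : A).2 }
  refine ⟨φ.range, ?_, ?_, ?_, ?_⟩
  · intro x
    constructor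
    · rintro ⟨a, rfl⟩
      exact ⟨_, (Additive.toMul a : A).2, rfl⟩
    · rintro ⟨a, ha, rfl⟩
      exact ⟨Additive.ofMul ⟨a, ha⟩, rfl⟩
  · rintro _ ⟨a, rfl⟩
    exact h.comm_mem hβ hg hv (Additive.toMul a : A).2
  · rw [eq_bot_iff]
    rintro _ ⟨⟨a, rfl⟩, hc⟩
    have h1 := h.cen_le hβ hg hv hvC (Additive.toMul a : A).2 hc
    have h2 : ((Additive.toMul a : A) : L) • v = v := h.mem_X_of hv _ h1
    change ((Additive.toMul a : A) : L) • v + v = 0
    rw [h2, h.two]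
  · have h1 : Nat.card ↥(A ⊓ Q) = Nat.card φ.ker := by
      apply Nat.card_congr
      exact
        { toFun := fun a => ⟨Additive.ofMul ⟨a, a.2.1⟩, by
            change (a : L) • v + v = 0
            rw [h.mem_X_of hv _ a.2.2, h.two]⟩
          invFun := fun a => ⟨((Additive.toMul (a : Additive A) : A) : L), (Additive.toMul (a : Additive A) : A).2,
            h.cen_le hβ hg hv hvC (Additive.toMul (a : Additive A) : A).2 (by
              have h3 : ((Additive.toMul (a : Additive A) : A) : L) • v + v = 0 := a.2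
              rw [h3]
              exact AddSubgroup.zero_mem _)⟩
          left_inv := fun a => rfl
          right_inv := fun a => rfl }
    rw [h1]
    have h2 := AddSubgroup.card_mul_index φ.ker
    rw [AddSubgroup.index_ker] at h2
    rw [mul_comm]
    exact h2

theorem exists_out : ∃ g : L, g ∉ L₁ := by
  by_contra hc
  push Not at hc
  exact h.ne (eq_top_iff.2 fun g _ => hc g)

theorem out_vec {g : L} : g • z ∈ g • (fx V Q ⊓ F) ∧ g • z ∉ fx V (⊤ : Subgroup L) := by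
  refine ⟨smul_mem_smul_as h.z_mem, fun h1 => h.z_not ?_⟩
  have h2 : g⁻¹ • g • z = g • z := smul_add_top h1
  rw [inv_smul_smul] at h2
  rw [h2]; exact h1

theorem ne_bot : A ⊓ Q ≠ ⊥ := by
  obtain ⟨g, hg⟩ := h.exists_out hβ
  obtain ⟨hx, hxC⟩ := h.out_vec hβ (g := g)
  obtain ⟨w, hw⟩ := h.mem.ne
  obtain ⟨s, hs, h1⟩ := h.mem.surj w hw _ (h.memE hβ hg hx)
  have hs1 : s ≠ 1 := by
    rintro rfl
    rw [one_smul, h.two, zero_add] at h1
    exact hxC (h.mem_C_of_F hg hx h1)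
  have h2 := h.mem.FB s hs _ h1
  have h3 : s • (g • z) = g • z := by
    rw [smul_add, smul_add, ← mul_smul, h.mem.sq s hs, one_smul, add_comm w (s • w)] at h2
    exact add_left_cancel h2
  have h4 := h.cen_le hβ hg hx hxC hs (by rw [h3, h.two]; exact AddSubgroup.zero_mem _)
  intro h5
  apply hs1
  have : s ∈ A ⊓ Q := ⟨hs, h4⟩
  rw [h5] at this
  exact this

theorem fx_le_E : fx V (A ⊓ Q) ≤ E := by
  intro v hv
  by_contra hvE
  apply h.ne_bot hβ
  rw [eq_bot_iff]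
  intro b hb
  have h1 := h.mem.inj v hvE b hb.1 (by rw [hv b hb, h.two]; exact F.zero_mem)
  rw [h1]; exact one_mem _

/-- the count -/
theorem count {g : L} (hg : g ∉ L₁) :
    Nat.card ↥(fx V Q ⊓ F) * Nat.card ↥(A ⊓ Q) = Nat.card ↥(fx V (⊤ : Subgroup L)) * Nat.card A ∧
      fx V (A ⊓ Q) = g • (fx V Q ⊓ F) ⊔ F := by
  set X₁ := fx V Q ⊓ F with hX₁
  set C := fx V (⊤ : Subgroup L) with hC
  obtain ⟨hv, hvC⟩ := h.out_vec hβ (g := g)
  obtain ⟨I, -, hI1, hI2, hI3⟩ := h.exists_img hβ hg hv hvC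
  have h1 := card_sup_as I C
  rw [hI2] at h1
  have h2 : Nat.card ↥(I ⊔ C) ≤ Nat.card X₁ :=
    Nat.card_le_card_of_injective _ (AddSubgroup.inclusion_injective (sup_le hI1 h.C_le))
  have hb1 : Nat.card (⊥ : AddSubgroup V) = 1 := AddSubgroup.card_bot
  rw [hb1, mul_one] at h1
  -- lower bound
  have h3 : Nat.card C * Nat.card A ≤ Nat.card X₁ * Nat.card ↥(A ⊓ Q) := by
    rw [← hI3]
    calc Nat.card C * (Nat.card I * Nat.card ↥(A ⊓ Q)) = Nat.card I * Nat.card C * Nat.card ↥(A ⊓ Q) := by ring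
      _ = Nat.card ↥(I ⊔ C) * Nat.card ↥(A ⊓ Q) := by rw [h1]
      _ ≤ _ := Nat.mul_le_mul_right _ h2
  -- upper bound
  have h4 := h.mu (A ⊓ Q) inf_le_left
  rw [h.mem.card_E h.two] at h4
  have h5 : g • X₁ ⊔ F ≤ fx V (A ⊓ Q) ⊓ E := by
    refine sup_le (le_inf ?_ fun v hv => h.memE hβ hg hv) (le_inf ?_ h.mem.FE)
    · intro v hv b hb
      exact h.mem_X_of hv b hb.2
    · intro f hf b hb
      exact h.mem.FB b hb.1 f hf
  have h6 := card_sup_as (g • X₁) F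
  have h7 : g • X₁ ⊓ F = C := by
    apply le_antisymm
    · rintro v ⟨hv1, hv2⟩
      exact h.mem_C_of_F hg hv1 hv2
    · intro v hv
      have h8 : v ∈ g • X₁ := by
        rw [mem_smul_as, smul_add_top hv]
        exact h.C_le hv
      exact ⟨h8, h.C_le_F hv⟩
  rw [h7, card_smul_as] at h6
  have h8 : Nat.card ↥(g • X₁ ⊔ F) ≤ Nat.card ↥(fx V (A ⊓ Q) ⊓ E) :=
    Nat.card_le_card_of_injective _ (AddSubgroup.inclusion_injective h5)
  have hF0 : 0 < Nat.card F := Nat.card_pos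
  have hC0 : 0 < Nat.card C := Nat.card_pos
  have hB0 : 0 < Nat.card ↥(A ⊓ Q) := Nat.card_pos
  have h9 : Nat.card X₁ * Nat.card ↥(A ⊓ Q) ≤ Nat.card C * Nat.card A := by
    apply Nat.le_of_mul_le_mul_left _ hF0
    calc Nat.card F * (Nat.card X₁ * Nat.card ↥(A ⊓ Q)) = Nat.card ↥(A ⊓ Q) * (Nat.card X₁ * Nat.card F) := by ring
      _ = Nat.card ↥(A ⊓ Q) * (Nat.card ↥(g • X₁ ⊔ F) * Nat.card C) := by rw [h6]
      _ ≤ Nat.card ↥(A ⊓ Q) * (Nat.card ↥(fx V (A ⊓ Q) ⊓ E) * Nat.card C) :=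
        Nat.mul_le_mul_left _ (Nat.mul_le_mul_right _ h8)
      _ = Nat.card ↥(A ⊓ Q) * Nat.card ↥(fx V (A ⊓ Q) ⊓ E) * Nat.card C := by ring
      _ ≤ Nat.card F * Nat.card A * Nat.card C := Nat.mul_le_mul_right _ h4
      _ = _ := by ring
  have h10 := le_antisymm h9 h3
  refine ⟨h10, ?_⟩
  have h11 : g • X₁ ⊔ F = fx V (A ⊓ Q) ⊓ E := by
    apply eq_of_le_as h5
    apply Nat.le_of_mul_le_mul_left _ (Nat.mul_pos hB0 hC0)
    calc Nat.card ↥(A ⊓ Q) * Nat.card C * Nat.card ↥(fx V (A ⊓ Q) ⊓ E) =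
          Nat.card ↥(A ⊓ Q) * Nat.card ↥(fx V (A ⊓ Q) ⊓ E) * Nat.card C := by ring
      _ ≤ Nat.card F * Nat.card A * Nat.card C := Nat.mul_le_mul_right _ h4
      _ = Nat.card F * (Nat.card C * Nat.card A) := by ring
      _ = Nat.card F * (Nat.card X₁ * Nat.card ↥(A ⊓ Q)) := by rw [h10]
      _ = Nat.card ↥(A ⊓ Q) * (Nat.card X₁ * Nat.card F) := by ring
      _ = Nat.card ↥(A ⊓ Q) * (Nat.card ↥(g • X₁ ⊔ F) * Nat.card C) := by rw [h6]
      _ = _ := by ring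
  rw [h11]
  exact (inf_eq_left.2 (h.fx_le_E hβ)).symm

theorem X_eq {g : L} (hg : g ∉ L₁) : fx V Q = fx V Q ⊓ F ⊔ g • (fx V Q ⊓ F) := by
  apply le_antisymm
  · intro x hx
    have h1 : x ∈ fx V (A ⊓ Q) := fun b hb => hx b hb.2
    rw [(h.count hβ hg).2, AddSubgroup.mem_sup] at h1
    obtain ⟨y, hy, f, hf, rfl⟩ := h1
    have h2 : f ∈ fx V Q := by
      have := (fx V Q).sub_mem hx (h.mem_X_of hy)
      rwa [add_sub_cancel_left] at this
    rw [add_comm]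
    exact AddSubgroup.add_mem _ (AddSubgroup.mem_sup_left ⟨h2, hf⟩) (AddSubgroup.mem_sup_right hy)
  · exact sup_le inf_le_left fun v hv => h.mem_X_of hv

/-- transitivity: `[v, A] + C = X₁` -/
theorem full {g : L} (hg : g ∉ L₁) {v : V} (hv : v ∈ g • (fx V Q ⊓ F)) (hvC : v ∉ fx V (⊤ : Subgroup L)) {x : V}
    (hx : x ∈ fx V Q ⊓ F) : ∃ a ∈ A, ∃ c ∈ fx V (⊤ : Subgroup L), a • v + v = x + c := by
  obtain ⟨I, hI0, hI1, hI2, hI3⟩ := h.exists_img hβ hg hv hvC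
  have h1 := card_sup_as I (fx V (⊤ : Subgroup L))
  have hb1 : Nat.card (⊥ : AddSubgroup V) = 1 := AddSubgroup.card_bot
  rw [hI2, hb1, mul_one] at h1
  have h2 : I ⊔ fx V (⊤ : Subgroup L) = fx V Q ⊓ F := by
    apply eq_of_le_as (sup_le hI1 h.C_le)
    have hB0 : 0 < Nat.card ↥(A ⊓ Q) := Nat.card_pos
    apply Nat.le_of_mul_le_mul_right _ hB0
    rw [(h.count hβ hg).1, h1, ← hI3]
    apply le_of_eq
    ring
  rw [← h2, AddSubgroup.mem_sup] at hx
  obtain ⟨i, hi, c, hc, rfl⟩ := hx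
  obtain ⟨a, ha, rfl⟩ := (hI0 i).1 hi
  exact ⟨a, ha, c, hc, by rw [add_assoc, h.two, add_zero]⟩

/-- (j) -/
theorem cov {g : L} (hg : g ∉ L₁) {x : V} (hx : x ∈ fx V Q) (hxF : x ∉ F) :
    ∃ a ∈ A, x ∈ (a * g) • (fx V Q ⊓ F) := by
  have h1 := hx
  rw [h.X_eq hβ hg, AddSubgroup.mem_sup] at h1
  obtain ⟨x1, hx1, v, hv, rfl⟩ := h1
  have hvC : v ∉ fx V (⊤ : Subgroup L) := fun h2 => hxF (F.add_mem hx1.2 (h.C_le_F h2))
  obtain ⟨a, ha, c, hc, h3⟩ := h.full hβ hg hv hvC hx1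
  refine ⟨a, ha, ?_⟩
  have e : x1 + v = a • v + c := by
    have : a • v + v + (v + c) = x1 + c + (v + c) := by rw [h3]
    have e1 : a • v + v + (v + c) = a • v + c + (v + v) := by abel
    have e2 : x1 + c + (v + c) = x1 + v + (c + c) := by abel
    rw [e1, e2, h.two, h.two, add_zero, add_zero] at this
    exact this.symm
  rw [e, mul_smul]
  refine AddSubgroup.add_mem _ (smul_mem_smul_as hv) ?_
  rw [mem_smul_as, mem_smul_as, smul_add_top hc, smul_add_top hc]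
  exact h.C_le hc

theorem A_mul_out {g a : L} (hg : g ∉ L₁) (ha : a ∈ A) : a * g ∉ L₁ := by
  intro h1
  apply hg
  have e : g = a⁻¹ * (a * g) := by group
  rw [e]
  exact mul_mem (inv_mem (h.A_le ha)) h1

/-- (k) -/
theorem inv {l : L} (hl : l ∈ L₁) : l • (fx V Q ⊓ F) = fx V Q ⊓ F := by
  have key : ∀ l ∈ L₁, ∀ x ∈ fx V Q ⊓ F, l • x ∈ fx V Q ⊓ F := by
    intro l hl x hx
    refine ⟨h.smul_X l hx.1, ?_⟩
    by_contra hF
    obtain ⟨g, hg⟩ := h.exists_out hβ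
    obtain ⟨a, ha, h1⟩ := h.cov hβ hg (h.smul_X l hx.1) hF
    have h2 := h.A_mul_out hβ hg ha
    have h3 : l⁻¹ * (a * g) ∉ L₁ := by
      intro h4
      apply h2
      have e : a * g = l * (l⁻¹ * (a * g)) := by group
      rw [e]
      exact mul_mem hl h4
    have h4 := h.mem_C_of h3 (smul_mem_smul_as hx) h1
    exact hF (h.C_le_F h4)
  ext v
  rw [mem_smul_as]
  constructor
  · intro h1
    have := key l hl _ h1
    rwa [smul_inv_smul] at this
  · exact fun h1 => key l⁻¹ (inv_mem hl) v h1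

/-- (l) -/
theorem tra {g k : L} (hg : g ∉ L₁) (hk : k ∉ L₁) : ∃ a ∈ A, (a * g)⁻¹ * k ∈ L₁ := by
  obtain ⟨hv, hvC⟩ := h.out_vec hβ (g := k)
  have hvF : k • z ∉ F := fun h1 => hvC (h.mem_C_of_F hk hv h1)
  obtain ⟨a, ha, h1⟩ := h.cov hβ hg (h.mem_X_of hv) hvF
  refine ⟨a, ha, ?_⟩
  by_contra h2
  exact hvC (h.mem_C_of h2 h1 hv)

/-- **Case BETA.** -/
theorem beta : Beta A E F (fx V Q) Q L₁ where
  XE := fun x hx => h.fx_le_E hβ fun b hb => hx b hb.2
  sup := fun g hg => h.X_eq hβ hg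
  cap := fun g hg a ha hag => h.cap_le hβ hg ha hag
  cen := fun x hx hxF a ha hax => by
    obtain ⟨g, hg⟩ := h.exists_out hβ
    obtain ⟨b, hb, h1⟩ := h.cov hβ hg hx hxF
    exact h.cen_le hβ (h.A_mul_out hβ hg hb) h1 (fun h2 => hxF (h.C_le_F h2)) ha
      (by rw [hax, h.two]; exact AddSubgroup.zero_mem _)
  cov := fun g hg x hx hxF => h.cov hβ hg hx hxF
  inv := fun g hg => h.inv hβ hg
  tra := fun g hg k hk => h.tra hβ hg hk
  card := by
    obtain ⟨g, hg⟩ := h.exists_out hβ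
    exact (h.count hβ hg).1
  CVB := by
    obtain ⟨g, hg⟩ := h.exists_out hβ
    rw [(h.count hβ hg).2]
    apply le_antisymm
    · exact sup_le (fun v hv => AddSubgroup.mem_sup_left (h.mem_X_of hv)) le_sup_right
    · refine sup_le ?_ le_sup_right
      conv_lhs => rw [h.X_eq hβ hg]
      exact sup_le (inf_le_right.trans le_sup_right) le_sup_left
  ne := h.ne_bot hβ
  cc := fun a ha haQ x hx hc => by
    obtain ⟨g, hg⟩ := h.exists_out hβ
    rw [h.X_eq hβ hg] at hx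
    exact (h.mem_F_of_comm hβ ha haQ hg hx hc).2
  full := fun v hv hvF x hx => by
    obtain ⟨g, hg⟩ := h.exists_out hβ
    obtain ⟨b, hb, h1⟩ := h.cov hβ hg hv hvF
    exact h.full hβ (h.A_mul_out hβ hg hb) h1 (fun h2 => hvF (h.C_le_F h2)) hx

end beta

end Loc

namespace Beta

variable {A : Subgroup L} {E F : AddSubgroup V} {Q L₁ : Subgroup L} {X : AddSubgroup V}

/-- `S₁ = B₁^⊥ ≤ B₁`, `s^⊥ = B₁` for `s ∈ S₁#` -/
theorem perp (h : Beta A E F X Q L₁) (hm : Mem A E F) (hXQ : X ≤ fx V Q) {w : V}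
    (hw : w ∉ E) {s : L} (hs : s ∈ A) (hs1 : s ≠ 1) (hsX : s • w + w ∈ X ⊔ F) {t : L} (ht : t ∈ A) :
    t • (s • w + w) = s • w + w ↔ t ∈ Q := by
  rw [AddSubgroup.mem_sup] at hsX
  obtain ⟨x, hx, f, hf, he⟩ := hsX
  have hxF : x ∉ F := fun h3 => hs1 (hm.inj w hw s hs (by rw [← he]; exact F.add_mem h3 hf))
  rw [← he, smul_add, hm.FB t ht f hf]
  constructor
  · intro h3
    exact h.cen x hx hxF t ht (add_right_cancel h3)
  · intro h3
    rw [hXQ hx t h3]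

theorem perp_mem (h : Beta A E F X Q L₁) (hm : Mem A E F) (hXQ : X ≤ fx V Q) {w : V}
    (hw : w ∉ E) {s : L} (hs : s ∈ A) (hsX : s • w + w ∈ X ⊔ F) : s ∈ Q := by
  by_cases hs1 : s = 1
  · rw [hs1]; exact one_mem _
  · rw [← h.perp hm hXQ hw hs hs1 hsX hs, smul_add, ← mul_smul, hm.sq s hs, one_smul, add_comm]

end Beta

end Cfsg.Agent.Omega.NO1.AB
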