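import Cfsg.Agent.Omega.NO1.AB.UMin
import Cfsg.Agent.Omega.NO1.AB.Beta
import Cfsg.Agent.PLocal.ConjFunctor

/-!
# N1: LEMMA E and (UPE) (bb OMEGA 20493, helper367; 18221 (E1), helper174)

`LEMMA E` : `C` normalises `E_B` and `F_C ≤ E_B` imply `E_B = E_C`.  `Cor3 B C` : the pairs of COR 3.
`upe_of` : if there is no pair of COR 3 in a 2-group then all members of a 2-group have the same `E`.
-/

set_option autoImplicit false
set_option linter.unusedSectionVars false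

namespace Cfsg.Agent.Omega.NO1.AB

open Subgroup
open scoped Pointwise

universe u

variable {Y : Type u} [Group Y] {V : Type u} [AddCommGroup V] [DistribMulAction Y V]

/-- `X` normalises `W` -/
def Nm (X : Subgroup Y) (W : AddSubgroup V) : Prop := ∀ x ∈ X, ∀ w ∈ W, x • w ∈ W

theorem Nm.mono {X Z : Subgroup Y} {W : AddSubgroup V} (h : Nm Z W) (hXZ : X ≤ Z) : Nm X W :=
  fun x hx => h x (hXZ hx)

/-- the stabiliser of a subgroup of `V` -/
def stb (W : AddSubgroup V) : Subgroup Y where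
  carrier := {y | ∀ w, y • w ∈ W ↔ w ∈ W}
  one_mem' := fun w => by rw [one_smul]
  mul_mem' := fun {a b} ha hb w => by rw [mul_smul, ha, hb]
  inv_mem' := fun {a} ha w => by rw [← ha (a⁻¹ • w), smul_inv_smul]

theorem mem_stb {W : AddSubgroup V} {y : Y} : y ∈ (stb W : Subgroup Y) ↔ ∀ w, y • w ∈ W ↔ w ∈ W := Iff.rfl

theorem nm_iff {X : Subgroup Y} {W : AddSubgroup V} : Nm X W ↔ X ≤ stb W := by
  constructor
  · intro h x hx w
    refine ⟨fun hw => ?_, h x hx w⟩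
    have := h x⁻¹ (inv_mem hx) _ hw
    rwa [inv_smul_smul] at this
  · intro h x hx w hw
    exact (h hx w).2 hw

theorem nm_stb (W : AddSubgroup V) : Nm (stb W : Subgroup Y) W := nm_iff.2 le_rfl

theorem Nm.sup {X Z : Subgroup Y} {W : AddSubgroup V} (h1 : Nm X W) (h2 : Nm Z W) : Nm (X ⊔ Z) W :=
  nm_iff.2 (sup_le (nm_iff.1 h1) (nm_iff.1 h2))

theorem mem_stb_of_eq {W : AddSubgroup V} {y : Y} (h : y • W = W) : y ∈ (stb W : Subgroup Y) := by
  intro w
  constructor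
  · intro hw
    rw [← h, AddSubgroup.mem_pointwise_smul_iff_inv_smul_mem, inv_smul_smul] at hw
    exact hw
  · intro hw
    rw [← h]
    exact AddSubgroup.smul_mem_pointwise_smul _ _ _ hw

theorem stb_eq {W : AddSubgroup V} {y : Y} (h : y ∈ (stb W : Subgroup Y)) : y • W = W := by
  ext w
  rw [AddSubgroup.mem_pointwise_smul_iff_inv_smul_mem]
  have := h (y⁻¹ • w)
  rw [smul_inv_smul] at this
  exact this.symm

theorem Mem.nm {A : Subgroup Y} {E F : AddSubgroup V} (h : Mem A E F) : Nm A E := by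
  intro a ha e he
  have h1 := E.sub_mem (h.VB a ha e) he
  rwa [add_sub_cancel_right] at h1

theorem Mem.mem_of_fix (h2 : ∀ v : V, v + v = 0) {A : Subgroup Y} {E F : AddSubgroup V} (h : Mem A E F) {b : Y}
    (hb : b ∈ A) (h1 : b ≠ 1) {v : V} (hv : b • v = v) : v ∈ E := by
  by_contra hvE
  refine h1 (h.inj v hvE b hb ?_)
  rw [hv, h2]
  exact F.zero_mem

namespace Cls

variable {U : Set (Subgroup Y)} (hc : Cls V U)
include hc

theorem card_Ee [Finite V] {B C : Subgroup Y} (hB : B ∈ U) (hC : C ∈ U) :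
    Nat.card (Ee V B) = Nat.card (Ee V C) := by
  obtain ⟨y, rfl⟩ := hc.eq B hB C hC
  rw [Ee_conj]
  exact (card_smul_as y _).symm

theorem card_fx [Finite V] {B C : Subgroup Y} (hB : B ∈ U) (hC : C ∈ U) :
    Nat.card (fx V B) = Nat.card (fx V C) := by
  obtain ⟨y, rfl⟩ := hc.eq B hB C hC
  rw [fx_conj]
  exact (card_smul_as y _).symm

theorem Ee_eq_of_le [Finite V] {B C : Subgroup Y} (hB : B ∈ U) (hC : C ∈ U) (h : Ee V B ≤ Ee V C) :
    Ee V B = Ee V C := by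
  apply SetLike.coe_injective
  apply Set.eq_of_subset_of_ncard_le h
  · rw [← Nat.card_coe_set_eq, ← Nat.card_coe_set_eq]
    exact (hc.card_Ee hC hB).le

/-- **LEMMA E.** -/
theorem lemE [Finite V] {B C : Subgroup Y} (hB : B ∈ U) (hC : C ∈ U) (hN : Nm C (Ee V B))
    (hF : fx V C ≤ Ee V B) : Ee V B = Ee V C := by
  by_cases h1 : Ee V B ≤ Ee V C
  · exact hc.Ee_eq_of_le hB hC h1
  · obtain ⟨w, hw, hwC⟩ := SetLike.not_le_iff_exists.1 h1
    symm
    apply hc.Ee_eq_of_le hC hB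
    intro e he
    obtain ⟨b, hb, hbe⟩ := (hc.mem C hC).surj w hwC e he
    have h2 := hF hbe
    have h3 : b • w + w ∈ Ee V B := (Ee V B).add_mem (hN b hb w hw) hw
    have h4 := (Ee V B).sub_mem h2 h3
    rwa [add_sub_cancel_left] at h4

/-- **COR 1.** -/
theorem cor1 [Finite V] {B C : Subgroup Y} (hB : B ∈ U) (hC : C ∈ U) (hN : Nm C (Ee V B)) {b : Y}
    (hbB : b ∈ B) (hbC : b ∈ C) (hb : b ≠ 1) : Ee V B = Ee V C :=
  hc.lemE hB hC hN fun _ hv => (hc.mem B hB).mem_of_fix hc.two hbB hb (hv b hbC)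

end Cls

/-- The pairs of COR 3. -/
structure Cor3 (V : Type u) [AddCommGroup V] [DistribMulAction Y V] (B C : Subgroup Y) : Prop where
  nB : Nm B (Ee V C)
  nC : Nm C (Ee V B)
  notB : ¬ fx V B ≤ Ee V C
  notC : ¬ fx V C ≤ Ee V B

theorem lt_inf_norm [Finite Y] {R S : Subgroup Y} (hS : IsPGroup 2 S) (hRS : R < S) :
    ∃ s ∈ S, s ∈ normalizer (R : Set Y) ∧ s ∉ R := by
  have : Fact (Nat.Prime 2) := ⟨Nat.prime_two⟩
  have h1 := Cfsg.Agent.PLocal.ConjFunctor.lt_inf_normalizer hS hRS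
  obtain ⟨x, hx, hxR⟩ := SetLike.exists_of_lt h1
  exact ⟨x, hx.1, hx.2, hxR⟩

namespace Cls

variable {U : Set (Subgroup Y)} (hc : Cls V U)
include hc

/-- two members, each normalising the `E` of the other: `E` equal or a pair of COR 3 -/
theorem eq_or_cor3 [Finite V] {B C : Subgroup Y} (hB : B ∈ U) (hC : C ∈ U) (h1 : Nm C (Ee V B))
    (h2 : Nm B (Ee V C)) : Ee V B = Ee V C ∨ Cor3 V B C := by
  by_cases h3 : fx V C ≤ Ee V B
  · exact Or.inl (hc.lemE hB hC h1 h3)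
  by_cases h4 : fx V B ≤ Ee V C
  · exact Or.inl (hc.lemE hC hB h2 h4).symm
  exact Or.inr ⟨h2, h1, h4, h3⟩

/-- the general form of the normaliser argument: if `E_{B^t} = E_B` for all `t ∈ N_S(N_S(E_B))` then `S`
normalises `E_B` -/
theorem nm_of_step [Finite Y] {S B : Subgroup Y} (hS : IsPGroup 2 S)
    (h : ∀ t ∈ S, t ∈ normalizer ((S ⊓ stb (Ee V B) : Subgroup Y) : Set Y) →
      Ee V (MulAut.conj t • B) = Ee V B) : Nm S (Ee V B) := by
  rw [nm_iff]
  by_contra hne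
  have h1 : S ⊓ stb (Ee V B) < S := by
    refine lt_of_le_of_ne inf_le_left fun h1 => hne ?_
    rw [← h1]
    exact inf_le_right
  obtain ⟨t, htS, htN, htR⟩ := lt_inf_norm hS h1
  apply htR
  refine ⟨htS, mem_stb_of_eq ?_⟩
  rw [← Ee_conj]
  exact h t htS htN

theorem conj_le_of_normalizer {B R : Subgroup Y} {t : Y} (hBR : B ≤ R) (ht : t ∈ normalizer (R : Set Y)) :
    MulAut.conj t • B ≤ R := by
  intro y hy
  rw [mem_conj] at hy
  rw [mem_normalizer_iff''.1 ht]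
  exact hBR hy

/-- **COR 2.** -/
theorem cor2 [Finite Y] [Finite V] {S B : Subgroup Y} (hB : B ∈ U) (hS : IsPGroup 2 S) (hBS : B ≤ S) {b : Y}
    (hbB : b ∈ B) (hb : b ≠ 1) (hbZ : ∀ s ∈ S, s * b = b * s) : Nm S (Ee V B) := by
  apply hc.nm_of_step hS
  intro t htS htN
  have hBR : B ≤ S ⊓ stb (Ee V B) := le_inf hBS (nm_iff.1 (hc.mem B hB).nm)
  have h1 : MulAut.conj t • B ≤ S ⊓ stb (Ee V B) := hc.conj_le_of_normalizer hBR htN
  have h2 : b ∈ MulAut.conj t • B := by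
    rw [mem_conj]
    have : t⁻¹ * b * t = b := by rw [mul_assoc, ← hbZ t htS]; group
    rwa [this]
  exact (hc.cor1 hB (hc.conj B hB t) (nm_iff.2 (h1.trans inf_le_right)) hbB h2 hb).symm

/-- **COR 3**: if a 2-group contains no pair of COR 3 then it normalises the `E` of its members. -/
theorem nm_of_no_cor3 [Finite Y] [Finite V] {S : Subgroup Y} (hS : IsPGroup 2 S)
    (hno : ∀ B ∈ U, ∀ C ∈ U, B ≤ S → C ≤ S → ¬ Cor3 V B C) {B : Subgroup Y} (hB : B ∈ U) (hBS : B ≤ S) :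
    Nm S (Ee V B) := by
  apply hc.nm_of_step hS
  intro t htS htN
  have hBR : B ≤ S ⊓ stb (Ee V B) := le_inf hBS (nm_iff.1 (hc.mem B hB).nm)
  have h1 : MulAut.conj t • B ≤ S ⊓ stb (Ee V B) := hc.conj_le_of_normalizer hBR htN
  have hB' := hc.conj B hB t
  have h2 : Nm B (Ee V (MulAut.conj t • B)) := by
    rw [Ee_conj]
    intro b hb v hv
    rw [AddSubgroup.mem_pointwise_smul_iff_inv_smul_mem] at hv ⊢
    have h3 : t⁻¹ * b * t ∈ S ⊓ stb (Ee V B) := by
      have h4 := (mem_normalizer_iff''.1 htN b).1 (hBR hb)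
      exact h4
    have h5 := (h3.2 (t⁻¹ • v)).2 hv
    rw [← mul_smul] at h5 ⊢
    have e : t⁻¹ * b * t * t⁻¹ = t⁻¹ * b := by group
    rwa [e] at h5
  rcases hc.eq_or_cor3 hB hB' (nm_iff.2 (h1.trans inf_le_right)) h2 with h3 | h3
  · exact h3.symm
  · exact absurd h3 (hno B hB _ hB' hBS (h1.trans inf_le_left))

/-- **(UPE)** if there is no pair of COR 3. -/
theorem upe_of_no_cor3 [Finite Y] [Finite V] {S : Subgroup Y} (hS : IsPGroup 2 S)
    (hno : ∀ B ∈ U, ∀ C ∈ U, B ≤ S → C ≤ S → ¬ Cor3 V B C) {B C : Subgroup Y} (hB : B ∈ U) (hBS : B ≤ S)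
    (hC : C ∈ U) (hCS : C ≤ S) : Ee V B = Ee V C := by
  rcases hc.eq_or_cor3 hB hC ((hc.nm_of_no_cor3 hS hno hB hBS).mono hCS)
    ((hc.nm_of_no_cor3 hS hno hC hCS).mono hBS) with h | h
  · exact h
  · exact absurd h (hno B hB C hC hBS hCS)

end Cls

end Cfsg.Agent.Omega.NO1.AB
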