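import Cfsg.Agent.Omega.NO1.HE.Base

/-!
# N1, ALPHA / BETA (bb OMEGA 17581, helper645): the local group of a minimal pair

`Mem A E F` : a member `A` with its frame `F = C_V(A) ≤ E` (FLAT, `N = 1`).
`Loc A E F Q L₁ R z` : `L = ⟨A, A^x⟩`, `L₁` the unique maximal subgroup of `L` over `A`, `Q = O₂(L)`, `R` a Sylow
2-subgroup of `L` over `A`, `z` a vector fixed by `R` and not by `L`; `mu` is (MU): `|A₀||C_E(A₀)| ≤ |E|`.
-/

set_option autoImplicit false
set_option linter.unusedSectionVars false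

namespace Cfsg.Agent.Omega.NO1.AB

open Subgroup
open scoped Pointwise

universe u

variable {L : Type u} [Group L] {V : Type u} [AddCommGroup V] [DistribMulAction L V]

/-- The fixed points of a subgroup. -/
def fx (V : Type u) [AddCommGroup V] [DistribMulAction L V] (H : Subgroup L) : AddSubgroup V where
  carrier := {v | ∀ h ∈ H, h • v = v}
  add_mem' := fun {a b} ha hb h hh => by rw [smul_add, ha h hh, hb h hh]
  zero_mem' := fun h _ => smul_zero h
  neg_mem' := fun {a} ha h hh => by rw [smul_neg, ha h hh]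

theorem mem_fx {H : Subgroup L} {v : V} : v ∈ fx V H ↔ ∀ h ∈ H, h • v = v := Iff.rfl

theorem fx_mono {H K : Subgroup L} (h : H ≤ K) : fx V K ≤ fx V H := fun _ hv k hk => hv k (h hk)

/-- A member with its frame. -/
structure Mem (A : Subgroup L) (E F : AddSubgroup V) : Prop where
  comm : ∀ b ∈ A, ∀ c ∈ A, b * c = c * b
  sq : ∀ b ∈ A, b * b = 1
  FE : F ≤ E
  VB : ∀ b ∈ A, ∀ v : V, b • v + v ∈ E
  EB : ∀ b ∈ A, ∀ e ∈ E, b • e + e ∈ F
  FB : ∀ b ∈ A, ∀ f ∈ F, b • f = f
  CB : ∀ v : V, (∀ b ∈ A, b • v = v) → v ∈ F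
  inj : ∀ w, w ∉ E → ∀ b ∈ A, b • w + w ∈ F → b = 1
  surj : ∀ w, w ∉ E → ∀ e ∈ E, ∃ b ∈ A, b • w + w + e ∈ F
  ne : ∃ v, v ∉ E

theorem mem_conj {H : Subgroup L} {g y : L} : y ∈ MulAut.conj g • H ↔ g⁻¹ * y * g ∈ H := HE.mem_conj

theorem conj_mem_conj {H : Subgroup L} {g y : L} (hy : y ∈ H) : g * y * g⁻¹ ∈ MulAut.conj g • H := by
  rw [mem_conj]
  have : g⁻¹ * (g * y * g⁻¹) * g = y := by group
  rwa [this]

theorem conj_smul_smul (g k : L) (H : Subgroup L) :
    MulAut.conj g • MulAut.conj k • H = MulAut.conj (g * k) • H := by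
  rw [map_mul, mul_smul]

theorem conj_le_conj {H K : Subgroup L} (g : L) (h : H ≤ K) : MulAut.conj g • H ≤ MulAut.conj g • K := by
  intro y hy
  rw [mem_conj] at hy ⊢
  exact h hy

theorem conj_le_iff {H K : Subgroup L} (g : L) : MulAut.conj g • H ≤ K ↔ H ≤ MulAut.conj g⁻¹ • K := by
  constructor
  · intro h y hy
    rw [mem_conj]
    have := h (conj_mem_conj (g := g) hy)
    simpa using this
  · intro h y hy
    rw [mem_conj] at hy
    have := h hy
    rw [mem_conj] at this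
    have e : (g⁻¹)⁻¹ * (g⁻¹ * y * g) * g⁻¹ = y := by group
    rwa [e] at this

theorem conj_eq_top {H : Subgroup L} {g : L} (h : MulAut.conj g • H = ⊤) : H = ⊤ := by
  rw [eq_top_iff]
  intro y _
  have : g * y * g⁻¹ ∈ MulAut.conj g • H := by rw [h]; exact mem_top _
  rw [mem_conj] at this
  have e : g⁻¹ * (g * y * g⁻¹) * g = y := by group
  rwa [e] at this

theorem conj_eq_self_of_le [Finite L] {H : Subgroup L} {g : L} (h : MulAut.conj g • H ≤ H) :
    MulAut.conj g • H = H := by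
  apply eq_of_le_of_card_ge h
  apply le_of_eq
  exact (Nat.card_congr (Subgroup.equivSMul (MulAut.conj g) H).toEquiv)

/-- `P ∩ N` is Sylow in the normal subgroup `N`: Frattini -/
theorem frattini_inf [Finite L] (P : Sylow 2 L) (N : Subgroup L) [N.Normal] :
    normalizer (((P : Subgroup L) ⊓ N : Subgroup L) : Set L) ⊔ N = ⊤ := by
  have : Fact (Nat.Prime 2) := ⟨Nat.prime_two⟩
  have hd : ¬ 2 ∣ (P : Subgroup L).relIndex N := by
    have h1 := relIndex_mul_relIndex ((P : Subgroup L) ⊓ N) N ((P : Subgroup L) ⊔ N) inf_le_right le_sup_right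
    have h2 := relIndex_mul_relIndex ((P : Subgroup L) ⊓ N) P ((P : Subgroup L) ⊔ N) inf_le_left le_sup_left
    rw [inf_relIndex_left, ← relIndex_sup_right (H := (P : Subgroup L)) (K := N), ← h1,
      inf_relIndex_right, mul_comm] at h2
    have h3 : (N.relIndex ((P : Subgroup L) ⊔ N)) ≠ 0 := index_ne_zero_of_finite
    have h4 := Nat.eq_of_mul_eq_mul_right (Nat.pos_of_ne_zero h3) h2
    rw [← h4]
    intro h5
    exact P.not_dvd_index (h5.trans (relIndex_dvd_index_of_le le_sup_left))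
  let Q : Sylow 2 N := (P.2.comap_subtype (K := N)).toSylow hd
  have hQ : (Q : Subgroup N) = (P : Subgroup L).subgroupOf N := rfl
  have h1 := Q.normalizer_sup_eq_top
  rw [hQ, subgroupOf_map_subtype] at h1
  exact h1

/-- The local group of a minimal pair (without the vector `z`). -/
structure Loc0 (A : Subgroup L) (E F : AddSubgroup V) (Q L₁ : Subgroup L) (R : Sylow 2 L) : Prop where
  two : ∀ v : V, v + v = 0
  mem : Mem A E F
  mu : ∀ A₀ ≤ A, Nat.card A₀ * Nat.card ↥(fx V A₀ ⊓ E) ≤ Nat.card E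
  Qn : Q.Normal
  Q2 : IsPGroup 2 Q
  core : ∀ N : Subgroup L, N.Normal → IsPGroup 2 N → N ≤ Q
  AR : A ≤ (R : Subgroup L)
  R_ne : (R : Subgroup L) ≠ ⊤
  ne : L₁ ≠ ⊤
  uniq : ∀ H : Subgroup L, A ≤ H → H ≠ ⊤ → H ≤ L₁
  gen : ∃ x : L, A ⊔ MulAut.conj x • A = ⊤

/-- The local group of a minimal pair; `z` is fixed by `R` and not by `L`. -/
structure Loc (A : Subgroup L) (E F : AddSubgroup V) (Q L₁ : Subgroup L) (R : Sylow 2 L) (z : V) : Prop
    extends Loc0 A E F Q L₁ R where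
  zR : ∀ r ∈ R, r • z = z
  zL : ∃ l : L, l • z ≠ z

/-- the stabiliser of a vector -/
theorem stab_le_iff {A : Subgroup L} {E F : AddSubgroup V} {x : L} {v : V} (hm : Mem A E F) :
    MulAut.conj x • A ≤ MulAction.stabilizer L v ↔ x⁻¹ • v ∈ F := by
  constructor
  · intro h1
    apply hm.CB
    intro b hb
    have h2 := h1 (conj_mem_conj (g := x) hb)
    rw [MulAction.mem_stabilizer_iff, mul_smul, mul_smul] at h2
    rw [eq_inv_smul_iff]
    exact h2
  · intro h1 y hy
    rw [mem_conj] at hy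
    have h2 := hm.FB _ hy _ h1
    rw [mul_smul, mul_smul, smul_inv_smul, smul_left_cancel_iff] at h2
    exact h2

namespace Loc0

variable {A : Subgroup L} {E F : AddSubgroup V} {Q L₁ : Subgroup L} {R : Sylow 2 L}
  (h : Loc0 A E F Q L₁ R)
include h

theorem R_le : (R : Subgroup L) ≤ L₁ := h.uniq _ h.AR h.R_ne

theorem A_le : A ≤ L₁ := h.AR.trans h.R_le

theorem Q_le_R [Finite L] : Q ≤ (R : Subgroup L) := by
  have : Fact (Nat.Prime 2) := ⟨Nat.prime_two⟩
  have := h.Qn
  exact h.Q2.le_sylow_of_normal R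

theorem Q_le [Finite L] (g : L) : Q ≤ MulAut.conj g • L₁ := by
  intro y hy
  rw [mem_conj]
  exact h.R_le (h.Q_le_R (by simpa using h.Qn.conj_mem y hy g⁻¹))

/-- an element outside `L₁` generates `L` together with `A` -/
theorem top_of [Finite L] {x : L} (hx : x ∉ L₁) : A ⊔ MulAut.conj x • A = ⊤ := by
  by_contra hne
  have h1 := h.uniq _ le_sup_left hne
  have h2 : MulAut.conj x • A ≤ L₁ := le_sup_right.trans h1
  rw [conj_le_iff] at h2
  have h3 : MulAut.conj x⁻¹ • L₁ ≤ L₁ := h.uniq _ h2 fun h4 => h.ne (conj_eq_top h4)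
  have h4 := conj_eq_self_of_le h3
  -- the normalizer of `L₁` is everything
  have h5 : normalizer (L₁ : Set L) = ⊤ := by
    by_contra h6
    have h7 := h.uniq _ (h.A_le.trans le_normalizer) h6
    apply hx
    have h8 : x⁻¹ ∈ normalizer (L₁ : Set L) := by
      rw [mem_normalizer_iff]
      intro y
      constructor
      · intro hy
        have h9 := conj_mem_conj (g := x⁻¹) hy
        rwa [h4] at h9
      · intro hy
        have h9 : x⁻¹ * y * x⁻¹⁻¹ ∈ MulAut.conj x⁻¹ • L₁ := by rwa [h4]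
        rw [mem_conj] at h9
        have e : (x⁻¹)⁻¹ * (x⁻¹ * y * x⁻¹⁻¹) * x⁻¹ = y := by group
        rwa [e] at h9
    have h9 := h7 h8
    simpa using inv_mem h9
  obtain ⟨y, hy⟩ := h.gen
  apply h.ne
  rw [eq_top_iff, ← hy]
  refine sup_le h.A_le ?_
  intro a ha
  rw [mem_conj] at ha
  have h6 : y ∈ normalizer (L₁ : Set L) := by rw [h5]; exact mem_top y
  rw [mem_normalizer_iff] at h6
  have h7 := (h6 (y⁻¹ * a * y)).1 (h.A_le ha)
  have e : y * (y⁻¹ * a * y) * y⁻¹ = a := by group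
  rwa [e] at h7

/-- two conjugates of `A` at different points generate `L` -/
theorem top_of' [Finite L] {x y : L} (hx : x⁻¹ * y ∉ L₁) : MulAut.conj x • A ⊔ MulAut.conj y • A = ⊤ := by
  have h1 := h.top_of hx
  apply conj_eq_top (g := x⁻¹)
  rw [eq_top_iff, ← h1]
  refine sup_le ?_ ?_
  · intro a ha
    rw [mem_conj]
    have : x⁻¹⁻¹ * a * x⁻¹ ∈ MulAut.conj x • A := by
      have := conj_mem_conj (g := x) ha
      simpa using this
    exact (le_sup_left (a := MulAut.conj x • A)) this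
  · intro a ha
    rw [mem_conj]
    rw [mem_conj] at ha
    have : x⁻¹⁻¹ * a * x⁻¹ ∈ MulAut.conj y • A := by
      rw [mem_conj]
      have e : y⁻¹ * (x⁻¹⁻¹ * a * x⁻¹) * y = (x⁻¹ * y)⁻¹ * a * (x⁻¹ * y) := by group
      rwa [e]
    exact (le_sup_right (b := MulAut.conj y • A)) this

/-- `C_L(v) ≥ A^x` and `v` not fixed by `L` ⟹ `C_L(v) ≤ L₁^x`; general form -/
theorem le_of [Finite L] {x : L} {H : Subgroup L} (hx : MulAut.conj x • A ≤ H) (hH : H ≠ ⊤) :
    H ≤ MulAut.conj x • L₁ := by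
  rw [conj_le_iff] at hx
  have h1 := h.uniq _ hx fun h2 => hH (conj_eq_top h2)
  intro y hy
  rw [mem_conj]
  apply h1
  rw [mem_conj]
  have e : (x⁻¹)⁻¹ * (x⁻¹ * y * x) * x⁻¹ = y := by group
  rwa [e]

theorem fix_all [Finite L] {x y : L} (hx : x⁻¹ * y ∉ L₁) {v : V} (h1 : x⁻¹ • v ∈ F) (h2 : y⁻¹ • v ∈ F) :
    v ∈ fx V (⊤ : Subgroup L) := by
  have h3 : (⊤ : Subgroup L) ≤ MulAction.stabilizer L v := by
    rw [← h.top_of' hx]
    exact sup_le ((stab_le_iff h.mem).2 h1) ((stab_le_iff h.mem).2 h2)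
  exact fun l _ => h3 (mem_top l)

theorem stab_le [Finite L] {x : L} {v : V} (h1 : x⁻¹ • v ∈ F) (h2 : v ∉ fx V (⊤ : Subgroup L)) :
    MulAction.stabilizer L v ≤ MulAut.conj x • L₁ := by
  apply h.le_of ((stab_le_iff h.mem).2 h1)
  intro h3
  apply h2
  intro l _
  have : l ∈ MulAction.stabilizer L v := by rw [h3]; exact mem_top l
  exact this

/-- the 2-part of the core of `L₁` is in `Q` -/
theorem mem_Q_of [Finite L] {a : L} (ha : a ∈ A) (h1 : ∀ g : L, a ∈ MulAut.conj g • L₁) : a ∈ Q := by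
  have : Fact (Nat.Prime 2) := ⟨Nat.prime_two⟩
  set N := L₁.normalCore with hN
  have hNn : N.Normal := L₁.normalCore_normal
  have haN : a ∈ N := by
    intro g
    have := h1 g⁻¹
    rw [mem_conj] at this
    simpa using this
  have h2 := frattini_inf R N
  have h3 : normalizer (((R : Subgroup L) ⊓ N : Subgroup L) : Set L) = ⊤ := by
    by_contra h4
    have hle : (R : Subgroup L) ≤ normalizer (((R : Subgroup L) ⊓ N : Subgroup L) : Set L) := by
      intro r hr
      rw [mem_normalizer_iff]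
      intro y
      constructor
      · rintro ⟨hy1, hy2⟩
        exact ⟨(R : Subgroup L).mul_mem ((R : Subgroup L).mul_mem hr hy1) ((R : Subgroup L).inv_mem hr),
          hNn.conj_mem y hy2 r⟩
      · rintro ⟨hy1, hy2⟩
        refine ⟨?_, ?_⟩
        · have := (R : Subgroup L).mul_mem ((R : Subgroup L).mul_mem ((R : Subgroup L).inv_mem hr) hy1) hr
          have e : r⁻¹ * (r * y * r⁻¹) * r = y := by group
          rwa [e] at this
        · have := hNn.conj_mem _ hy2 r⁻¹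
          have e : r⁻¹ * (r * y * r⁻¹) * r⁻¹⁻¹ = y := by group
          rwa [e] at this
    have h5 := h.uniq _ (h.AR.trans hle) h4
    apply h.ne
    rw [eq_top_iff, ← h2]
    exact sup_le h5 (L₁.normalCore_le)
  have h4 : ((R : Subgroup L) ⊓ N).Normal := normalizer_eq_top_iff.1 h3
  exact h.core _ h4 (R.2.to_le inf_le_left) ⟨h.AR ha, haN⟩

theorem exists_not_mem [Finite L] {a : L} (ha : a ∈ A) (haQ : a ∉ Q) : ∃ g : L, a ∉ MulAut.conj g • L₁ := by
  by_contra hc
  push Not at hc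
  exact haQ (h.mem_Q_of ha hc)

/-- `A` is not in `Q` -/
theorem not_A_le [Finite L] : ¬ A ≤ Q := by
  intro hA
  have := h.Qn
  obtain ⟨x, hx⟩ := h.gen
  apply h.ne
  rw [eq_top_iff, ← hx]
  refine sup_le h.A_le ?_
  intro y hy
  rw [mem_conj] at hy
  have h1 := h.Qn.conj_mem _ (hA hy) x
  have e : x * (x⁻¹ * y * x) * x⁻¹ = y := by group
  rw [e] at h1
  exact h.R_le (h.Q_le_R h1)

end Loc0

end Cfsg.Agent.Omega.NO1.AB
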