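import Cfsg.Agent.Omega.NO1.AB.Loc

/-!
# N1: U-minimal pairs (bb OMEGA 18722 (0), helper446)

`Cls Y V U` : a class `U` of members (closed under conjugation) with (MU); `E_B = Ee V B = {v | [v,B] ≤ C_V(B)}`.
`UM U B B'` : `B ≠ B'` in `U` with `⟨B, B'⟩` minimal.  Then `B`, `B'` normalise each other (type II), or (type I)
`Loc0` holds in `L = ⟨B, B'⟩` with `L₁ = N_L(B)`, and `B'` is conjugate to `B` in `L`.
-/

set_option autoImplicit false
set_option linter.unusedSectionVars false

namespace Cfsg.Agent.Omega.NO1.AB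

open Subgroup
open scoped Pointwise

universe u

variable {Y : Type u} [Group Y] {V : Type u} [AddCommGroup V] [DistribMulAction Y V]

/-- `E_B = {v | [v, B] ≤ C_V(B)}` -/
def Ee (V : Type u) [AddCommGroup V] [DistribMulAction Y V] (B : Subgroup Y) : AddSubgroup V where
  carrier := {v | ∀ b ∈ B, b • v + v ∈ fx V B}
  add_mem' := fun {a c} ha hc b hb => by
    have e : b • (a + c) + (a + c) = (b • a + a) + (b • c + c) := by rw [smul_add]; abel
    change b • (a + c) + (a + c) ∈ fx V B
    rw [e]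
    exact (fx V B).add_mem (ha b hb) (hc b hb)
  zero_mem' := fun b _ => by
    change b • (0 : V) + 0 ∈ fx V B
    rw [smul_zero, add_zero]; exact (fx V B).zero_mem
  neg_mem' := fun {a} ha b hb => by
    have e : b • (-a) + (-a) = -(b • a + a) := by rw [smul_neg]; abel
    change b • (-a) + (-a) ∈ fx V B
    rw [e]
    exact (fx V B).neg_mem (ha b hb)

theorem mem_Ee {B : Subgroup Y} {v : V} : v ∈ Ee V B ↔ ∀ b ∈ B, b • v + v ∈ fx V B := Iff.rfl

/-- A member determines its frame. -/
theorem Mem.F_eq {A : Subgroup Y} {E F : AddSubgroup V} (h : Mem A E F) : F = fx V A :=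
  le_antisymm (fun f hf b hb => h.FB b hb f hf) fun v hv => h.CB v hv

theorem Mem.E_eq {A : Subgroup Y} {E F : AddSubgroup V} (h : Mem A E F) (hA : A ≠ ⊥) : E = Ee V A := by
  apply le_antisymm
  · intro e he b hb
    rw [← h.F_eq]
    exact h.EB b hb e he
  · intro v hv
    by_contra hvE
    apply hA
    rw [eq_bot_iff]
    intro b hb
    rw [h.inj v hvE b hb (by rw [h.F_eq]; exact hv b hb)]
    exact one_mem _

theorem fx_conj (B : Subgroup Y) (g : Y) : fx V (MulAut.conj g • B) = g • fx V B := by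
  ext v
  rw [AddSubgroup.mem_pointwise_smul_iff_inv_smul_mem]
  constructor
  · intro h b hb
    have h1 := h _ (conj_mem_conj (g := g) hb)
    rw [mul_smul, mul_smul] at h1
    rw [eq_inv_smul_iff]
    exact h1
  · intro h b hb
    rw [mem_conj] at hb
    have h1 := h _ hb
    rw [mul_smul, mul_smul, smul_inv_smul, smul_left_cancel_iff] at h1
    exact h1

theorem Ee_conj (B : Subgroup Y) (g : Y) : Ee V (MulAut.conj g • B) = g • Ee V B := by
  ext v
  rw [AddSubgroup.mem_pointwise_smul_iff_inv_smul_mem]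
  constructor
  · intro h b hb
    have h1 := h _ (conj_mem_conj (g := g) hb)
    rw [fx_conj, AddSubgroup.mem_pointwise_smul_iff_inv_smul_mem, smul_add, mul_smul, mul_smul,
      inv_smul_smul] at h1
    exact h1
  · intro h b hb
    rw [mem_conj] at hb
    have h1 := h _ hb
    rw [fx_conj, AddSubgroup.mem_pointwise_smul_iff_inv_smul_mem, smul_add]
    rw [mul_smul, mul_smul, smul_inv_smul] at h1
    exact h1

/-- A class of members. -/
structure Cls (V : Type u) [AddCommGroup V] [DistribMulAction Y V] (U : Set (Subgroup Y)) : Prop where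
  two : ∀ v : V, v + v = 0
  mem : ∀ B ∈ U, Mem B (Ee V B) (fx V B)
  mu : ∀ B ∈ U, ∀ A₀ ≤ B, Nat.card A₀ * Nat.card ↥(fx V A₀ ⊓ Ee V B) ≤ Nat.card (Ee V B)
  conj : ∀ B ∈ U, ∀ y : Y, MulAut.conj y • B ∈ U
  eq : ∀ B ∈ U, ∀ C ∈ U, ∃ y : Y, C = MulAut.conj y • B

/-- A U-minimal pair. -/
structure UM (U : Set (Subgroup Y)) (B B' : Subgroup Y) : Prop where
  mB : B ∈ U
  mB' : B' ∈ U
  ne : B ≠ B'
  min : ∀ C ∈ U, ∀ D ∈ U, C ≠ D → C ⊔ D ≤ B ⊔ B' → C ⊔ D = B ⊔ B'

theorem UM.symm {U : Set (Subgroup Y)} {B B' : Subgroup Y} (h : UM U B B') : UM U B' B where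
  mB := h.mB'
  mB' := h.mB
  ne := h.ne.symm
  min := fun C hC D hD hne hle => by
    rw [sup_comm B' B] at hle ⊢
    exact h.min C hC D hD hne hle

/-- U-minimal pairs exist below any pair. -/
theorem exists_um [Finite Y] {U : Set (Subgroup Y)} {B B' : Subgroup Y} (hB : B ∈ U) (hB' : B' ∈ U)
    (hne : B ≠ B') : ∃ C D : Subgroup Y, UM U C D ∧ C ⊔ D ≤ B ⊔ B' := by
  classical
  have hex : ∃ n : ℕ, ∃ C ∈ U, ∃ D ∈ U, C ≠ D ∧ C ⊔ D ≤ B ⊔ B' ∧ Nat.card (C ⊔ D : Subgroup Y) = n :=
    ⟨_, B, hB, B', hB', hne, le_rfl, rfl⟩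
  obtain ⟨C, hC, D, hD, hCD, hle, hcard⟩ := Nat.find_spec hex
  refine ⟨C, D, ⟨hC, hD, hCD, ?_⟩, hle⟩
  intro C' hC' D' hD' hne' hle'
  apply eq_of_le_of_card_ge hle'
  rw [hcard]
  exact Nat.find_min' hex ⟨C', hC', D', hD', hne', hle'.trans hle, rfl⟩

theorem Mem.isPGroup {A : Subgroup Y} {E F : AddSubgroup V} (h : Mem A E F) : IsPGroup 2 A := by
  rintro ⟨a, ha⟩
  refine ⟨1, Subtype.ext ?_⟩
  rw [pow_one]
  change a ^ 2 = 1
  rw [pow_two, h.sq a ha]

theorem subgroupOf_conj {K : Subgroup Y} (x : K) (C : Subgroup Y) :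
    (MulAut.conj x • C.subgroupOf K : Subgroup K) = (MulAut.conj (x : Y) • C).subgroupOf K := by
  ext y
  rw [mem_conj, mem_subgroupOf, mem_subgroupOf, mem_conj]
  rfl

namespace UM

variable {U : Set (Subgroup Y)} {B B' : Subgroup Y} (h : UM U B B') (hc : Cls V U)

include h hc

/-- `B ≤ H < L` ⟹ `H ≤ N(B)` -/
theorem le_norm {H : Subgroup Y} (hBH : B ≤ H) (hHL : H < B ⊔ B') : H ≤ normalizer (B : Set Y) := by
  have key : ∀ x ∈ H, MulAut.conj x • B = B := by
    intro x hx
    by_contra hne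
    have h1 : B ⊔ MulAut.conj x • B ≤ H := by
      refine sup_le hBH ?_
      intro y hy
      rw [mem_conj] at hy
      have h2 := mul_mem (mul_mem hx (hBH hy)) (inv_mem hx)
      have e : x * (x⁻¹ * y * x) * x⁻¹ = y := by group
      rwa [e] at h2
    have h2 := h.min B h.mB _ (hc.conj B h.mB x) (Ne.symm hne) (h1.trans hHL.le)
    rw [h2] at h1
    exact absurd h1 (not_le_of_gt hHL)
  intro x hx
  rw [mem_normalizer_iff]
  intro y
  have h1 := key x hx
  constructor
  · intro hy
    have := conj_mem_conj (g := x) hy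
    rwa [h1] at this
  · intro hy
    have h2 : x * y * x⁻¹ ∈ MulAut.conj x • B := by rwa [h1]
    rw [mem_conj] at h2
    have e : x⁻¹ * (x * y * x⁻¹) * x = y := by group
    rwa [e] at h2

/-- if `B'` normalises `B` then they normalise each other -/
theorem norm_symm [Finite Y] (h1 : B' ≤ normalizer (B : Set Y)) : B ≤ normalizer (B' : Set Y) := by
  have : Fact (Nat.Prime 2) := ⟨Nat.prime_two⟩
  set K := (B ⊔ B' : Subgroup Y) with hK
  have h2 : IsPGroup 2 K := by
    rw [hK]
    exact (hc.mem B h.mB).isPGroup.to_sup_of_normal_left' (hc.mem B' h.mB').isPGroup h1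
  by_cases hBK : B' = K
  · rw [hBK]
    exact le_sup_left.trans le_normalizer
  -- the normalizer of `B'` in `K` is larger than `B'`
  have h4 : B' < K := lt_of_le_of_ne le_sup_right hBK
  have h3 : B' < normalizer (B' : Set Y) ⊓ K := by
    have h5 : (B'.subgroupOf K) < normalizer ((B'.subgroupOf K : Subgroup K) : Set K) := by
      have : Group.IsNilpotent K := h2.isNilpotent
      apply Group.normalizerCondition_of_isNilpotent
      rw [lt_top_iff_ne_top]
      intro h6
      rw [subgroupOf_eq_top] at h6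
      exact absurd h6 (not_le_of_gt h4)
    obtain ⟨⟨x, hxK⟩, hx1, hx2⟩ := Set.exists_of_ssubset h5
    refine lt_of_le_of_ne (le_inf le_normalizer h4.le) ?_
    intro h6
    apply hx2
    have h7 : x ∈ normalizer (B' : Set Y) := by
      rw [mem_normalizer_iff]
      intro y
      rw [SetLike.mem_coe, mem_normalizer_iff] at hx1
      constructor
      · intro hy
        have := (hx1 ⟨y, h4.le hy⟩).1 (by rw [mem_subgroupOf]; exact hy)
        exact this
      · intro hy
        have hyK : y ∈ K := by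
          have h8 := mul_mem (mul_mem (inv_mem hxK) (h4.le hy)) hxK
          have e : x⁻¹ * (x * y * x⁻¹) * x = y := by group
          rwa [e] at h8
        exact (hx1 ⟨y, hyK⟩).2 hy
    have h8 : x ∈ normalizer (B' : Set Y) ⊓ K := ⟨h7, hxK⟩
    rw [← h6] at h8
    exact h8
  by_cases h5 : normalizer (B' : Set Y) ⊓ K = K
  · have h6 : K ≤ normalizer (B' : Set Y) := by rw [← h5]; exact inf_le_left
    exact le_sup_left.trans h6
  · exfalso
    -- `K` is a 2-group: a maximal subgroup over `B'` is normal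
    obtain ⟨M, hM1, hM2⟩ : ∃ M : Subgroup K, IsCoatom M ∧ (normalizer (B' : Set Y)).subgroupOf K ≤ M := by
      rcases eq_top_or_exists_le_coatom ((normalizer (B' : Set Y)).subgroupOf K) with h6 | h6
      · exfalso
        apply h5
        rw [inf_eq_right]
        rwa [subgroupOf_eq_top] at h6
      · obtain ⟨M, hM1, hM2⟩ := h6
        exact ⟨M, hM1, hM2⟩
    have hMn : M.Normal := by
      have : Group.IsNilpotent K := h2.isNilpotent
      exact NormalizerCondition.normal_of_coatom M Group.normalizerCondition_of_isNilpotent hM1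
    have hB'M : B' ≤ M.map K.subtype := by
      intro b hb
      exact ⟨⟨b, h4.le hb⟩, hM2 (le_normalizer hb), rfl⟩
    -- all `K`-conjugates of `B'` are in `M`, hence equal
    have hMlt : M.map K.subtype < K := by
      refine lt_of_le_of_ne (map_subtype_le _) ?_
      intro h6
      apply hM1.1
      rw [eq_top_iff]
      intro x _
      have h7 : (x : Y) ∈ M.map K.subtype := by rw [h6]; exact x.2
      obtain ⟨m, hm, hmx⟩ := h7
      have : m = x := Subtype.ext hmx
      rwa [← this]
    apply h5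
    apply le_antisymm inf_le_right
    refine le_inf ?_ le_rfl
    intro x hx
    have key : MulAut.conj x • B' = B' := by
      by_contra hne
      have h6 : B' ⊔ MulAut.conj x • B' ≤ M.map K.subtype := by
        refine sup_le hB'M ?_
        intro y hy
        rw [mem_conj] at hy
        obtain ⟨m, hm, hmy⟩ := hB'M hy
        refine ⟨⟨x, hx⟩ * m * ⟨x, hx⟩⁻¹, hMn.conj_mem m hm _, ?_⟩
        change x * (m : Y) * x⁻¹ = y
        have h7 : (m : Y) = x⁻¹ * y * x := hmy
        rw [h7]; group
      have h7 := h.min B' h.mB' _ (hc.conj B' h.mB' x) (Ne.symm hne) (h6.trans hMlt.le)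
      rw [h7] at h6
      exact absurd h6 (not_le_of_gt hMlt)
    rw [mem_normalizer_iff]
    intro y
    constructor
    · intro hy
      have := conj_mem_conj (g := x) hy
      rwa [key] at this
    · intro hy
      have h2 : x * y * x⁻¹ ∈ MulAut.conj x • B' := by rwa [key]
      rw [mem_conj] at h2
      have e : x⁻¹ * (x * y * x⁻¹) * x = y := by group
      rwa [e] at h2

/-- **Type I**: `B`, `B'` do not normalise each other. -/
theorem loc0 [Finite Y] [Finite V] (hn : ¬ B' ≤ normalizer (B : Set Y)) :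
    ∃ (Q : Subgroup (B ⊔ B' : Subgroup Y)) (R : Sylow 2 (B ⊔ B' : Subgroup Y)),
      Loc0 (B.subgroupOf (B ⊔ B')) (Ee V B) (fx V B) Q ((normalizer (B : Set Y)).subgroupOf (B ⊔ B')) R := by
  have : Fact (Nat.Prime 2) := ⟨Nat.prime_two⟩
  set K := (B ⊔ B' : Subgroup Y) with hK
  have hBK : B ≤ K := le_sup_left
  have hm := hc.mem B h.mB
  have hn' : ¬ B ≤ normalizer (B' : Set Y) := fun h1 => hn (h.symm.norm_symm hc h1)
  have hne : (normalizer (B : Set Y)).subgroupOf K ≠ ⊤ := by
    intro h1
    rw [subgroupOf_eq_top] at h1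
    exact hn (le_sup_right.trans h1)
  have huniq : ∀ H : Subgroup K, B.subgroupOf K ≤ H → H ≠ ⊤ → H ≤ (normalizer (B : Set Y)).subgroupOf K := by
    intro H hH hH1
    have h1 : H.map K.subtype < B ⊔ B' := by
      refine lt_of_le_of_ne (map_subtype_le _) ?_
      intro h6
      apply hH1
      rw [eq_top_iff]
      intro x _
      have h7 : (x : Y) ∈ H.map K.subtype := by rw [h6]; exact x.2
      obtain ⟨m, hm, hmx⟩ := h7
      have : m = x := Subtype.ext hmx
      rwa [← this]
    have h2 := h.le_norm hc (H := H.map K.subtype) (fun b hb => ⟨⟨b, hBK hb⟩, hH hb, rfl⟩) h1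
    intro x hx
    rw [mem_subgroupOf]
    exact h2 ⟨x, hx, rfl⟩
  have hgen : ∃ x : K, (B.subgroupOf K) ⊔ MulAut.conj x • (B.subgroupOf K) = ⊤ := by
    obtain ⟨x, hx⟩ : ∃ x : K, x ∉ (normalizer (B : Set Y)).subgroupOf K := by
      by_contra hcon
      push Not at hcon
      exact hne (eq_top_iff.2 fun x _ => hcon x)
    refine ⟨x, ?_⟩
    have h1 : MulAut.conj (x : Y) • B ≠ B := by
      intro h2
      apply hx
      rw [mem_subgroupOf, mem_normalizer_iff]
      intro y
      constructor
      · intro hy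
        have := conj_mem_conj (g := (x : Y)) hy
        rwa [h2] at this
      · intro hy
        have h3 : (x : Y) * y * (x : Y)⁻¹ ∈ MulAut.conj (x : Y) • B := by rwa [h2]
        rw [mem_conj] at h3
        have e : (x : Y)⁻¹ * ((x : Y) * y * (x : Y)⁻¹) * x = y := by group
        rwa [e] at h3
    have h2 : MulAut.conj (x : Y) • B ≤ K := by
      intro y hy
      rw [mem_conj] at hy
      have h3 := mul_mem (mul_mem x.2 (hBK hy)) (inv_mem x.2)
      have e : (x : Y) * ((x : Y)⁻¹ * y * x) * (x : Y)⁻¹ = y := by group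
      rwa [e] at h3
    have h3 := h.min B h.mB _ (hc.conj B h.mB x) h1.symm (sup_le hBK h2)
    rw [subgroupOf_conj, ← subgroupOf_sup hBK h2, h3, subgroupOf_self]
  -- a Sylow subgroup over `B`
  have hB2 : IsPGroup 2 (B.subgroupOf K) := hm.isPGroup.comap_of_injective K.subtype Subtype.coe_injective
  obtain ⟨R, hR⟩ := hB2.exists_le_sylow
  have hRne : (R : Subgroup K) ≠ ⊤ := by
    intro h1
    have h2 : IsPGroup 2 (⊤ : Subgroup K) := by rw [← h1]; exact R.2
    have h3 : IsPGroup 2 K := by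
      intro x
      obtain ⟨k, hk⟩ := h2 ⟨x, mem_top x⟩
      exact ⟨k, congrArg Subtype.val hk⟩
    have : Group.IsNilpotent K := h3.isNilpotent
    rcases eq_top_or_exists_le_coatom ((normalizer (B : Set Y)).subgroupOf K) with h6 | ⟨M, hM1, hM2⟩
    · exact hne h6
    · have hMn := NormalizerCondition.normal_of_coatom M Group.normalizerCondition_of_isNilpotent hM1
      have h7 : B.subgroupOf K ≤ M := by
        intro b hb
        exact hM2 (le_normalizer hb)
      obtain ⟨x, hx⟩ := hgen
      apply hM1.1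
      rw [eq_top_iff, ← hx]
      refine sup_le h7 ?_
      intro y hy
      rw [mem_conj] at hy
      have h8 := hMn.conj_mem _ (h7 hy) x
      have e : x * (x⁻¹ * y * x) * x⁻¹ = y := by group
      rwa [e] at h8
  -- `O₂`
  obtain ⟨Q, hQn, hQ2, hQ⟩ : ∃ Q : Subgroup K, Q.Normal ∧ IsPGroup 2 Q ∧
      ∀ N : Subgroup K, N.Normal → IsPGroup 2 N → N ≤ Q := by
    refine ⟨(R : Subgroup K).normalCore, (R : Subgroup K).normalCore_normal,
      R.2.to_le (R : Subgroup K).normalCore_le, ?_⟩
    intro N hN hN2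
    exact normal_le_normalCore.2 (hN2.le_sylow_of_normal R)
  refine ⟨Q, R, ?_⟩
  exact
    { two := hc.two
      mem :=
        { comm := fun b hb c hc' => Subtype.ext (hm.comm b hb c hc')
          sq := fun b hb => Subtype.ext (hm.sq b hb)
          FE := hm.FE
          VB := fun b hb v => hm.VB b hb v
          EB := fun b hb e he => hm.EB b hb e he
          FB := fun b hb f hf => hm.FB b hb f hf
          CB := fun v hv => hm.CB v fun b hb => hv ⟨b, hBK hb⟩ hb
          inj := fun w hw b hb hbw => Subtype.ext (hm.inj w hw b hb hbw)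
          surj := fun w hw e he => by
            obtain ⟨b, hb, h1⟩ := hm.surj w hw e he
            exact ⟨⟨b, hBK hb⟩, hb, h1⟩
          ne := hm.ne }
      mu := by
        intro A₀ hA₀
        have h1 := hc.mu B h.mB (A₀.map K.subtype) (by
          rintro _ ⟨a, ha, rfl⟩
          exact hA₀ ha)
        have h2 : Nat.card ↥(A₀.map K.subtype) = Nat.card A₀ :=
          Nat.card_congr (A₀.equivMapOfInjective _ K.subtype_injective).symm.toEquiv
        have h3 : fx V (A₀.map K.subtype) = fx V A₀ := by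
          ext v
          constructor
          · intro hv a ha
            exact hv a ⟨a, ha, rfl⟩
          · rintro hv _ ⟨a, ha, rfl⟩
            exact hv a ha
        rw [h2, h3] at h1
        exact h1
      Qn := hQn
      Q2 := hQ2
      core := hQ
      AR := hR
      R_ne := hRne
      ne := hne
      uniq := huniq
      gen := hgen }

/-- In type I, `B'` is conjugate to `B` in `L`. -/
theorem conj_of_typeI [Finite Y] [Finite V] (hn : ¬ B' ≤ normalizer (B : Set Y)) :
    ∃ x ∈ B ⊔ B', B' = MulAut.conj x • B := by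
  obtain ⟨Q, R, hL⟩ := h.loc0 (V := V) hc hn
  have hm' := hc.mem B' h.mB'
  have hB2 : IsPGroup 2 (B'.subgroupOf (B ⊔ B')) := hm'.isPGroup.comap_of_injective (B ⊔ B').subtype Subtype.coe_injective
  obtain ⟨P, hP⟩ := hB2.exists_le_sylow
  obtain ⟨k, hk⟩ := MulAction.exists_smul_eq (B ⊔ B' : Subgroup Y) P R
  -- `B'^k ≤ R ≤ N(B)`
  have h1 : MulAut.conj (k : Y) • B' ≤ normalizer (B : Set Y) ⊓ (B ⊔ B') := by
    intro y hy
    rw [mem_conj] at hy
    have hyK : (k : Y)⁻¹ * y * k ∈ B ⊔ B' := le_sup_right (a := B) hy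
    have hy' : y ∈ B ⊔ B' := by
      have h3 := mul_mem (mul_mem k.2 hyK) (inv_mem k.2)
      have e : (k : Y) * ((k : Y)⁻¹ * y * k) * (k : Y)⁻¹ = y := by group
      rwa [e] at h3
    refine ⟨?_, hy'⟩
    have h2 : (⟨y, hy'⟩ : (B ⊔ B' : Subgroup Y)) ∈ (R : Subgroup (B ⊔ B' : Subgroup Y)) := by
      rw [← hk]
      change (⟨y, hy'⟩ : (B ⊔ B' : Subgroup Y)) ∈ k • P
      rw [HE.mem_smul_sylow]
      exact hP (show (k : Y)⁻¹ * y * k ∈ B' from hy)
    exact hL.R_le h2
  have h2 : MulAut.conj (k : Y) • B' = B := by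
    by_contra hne
    have h3 : MulAut.conj (k : Y) • B' ⊔ B ≤ normalizer (B : Set Y) ⊓ (B ⊔ B') :=
      sup_le h1 (le_inf le_normalizer le_sup_left)
    have h4 := h.min _ (hc.conj B' h.mB' k) B h.mB hne (h3.trans inf_le_right)
    rw [h4] at h3
    exact hn ((le_sup_right.trans h3).trans inf_le_left)
  refine ⟨(k : Y)⁻¹, inv_mem k.2, ?_⟩
  have e : B' = MulAut.conj ((k : Y)⁻¹) • (MulAut.conj (k : Y) • B') := by
    rw [← mul_smul, ← map_mul, inv_mul_cancel, map_one, one_smul]
  exact e.trans (congrArg _ h2)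

end UM

end Cfsg.Agent.Omega.NO1.AB
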